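/-
The principal `p`-block: definitions and immediate consequences.
-/
import Cfsg.Agent.FT.CH2

set_option autoImplicit false

namespace Cfsg.Agent.P1

open Subgroup Cfsg Cfsg.Agent Cfsg.Agent.FT
open scoped ComplexConjugate

universe u

variable {G : Type u} [Group G]

/-- The `p`-regular elements of `H`. -/
def regSet (p : ℕ) (H : Subgroup G) : Set G := {x | x ∈ H ∧ (orderOf x).Coprime p}

theorem mem_regSet {p : ℕ} {H : Subgroup G} {x : G} :
    x ∈ regSet p H ↔ x ∈ H ∧ (orderOf x).Coprime p := Iff.rfl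

theorem one_mem_regSet (p : ℕ) (H : Subgroup G) : (1 : G) ∈ regSet p H :=
  ⟨one_mem H, by simp⟩

theorem regSet_subset (p : ℕ) (H : Subgroup G) : regSet p H ⊆ H := fun _ h => h.1

theorem conj_mem_regSet_iff {p : ℕ} {H : Subgroup G} {g : G} (hg : g ∈ 𝐍(H)) (x : G) :
    g * x * g⁻¹ ∈ regSet p H ↔ x ∈ regSet p H := by
  rw [mem_regSet, mem_regSet, ← mem_normalizer_iff.mp hg, ← MulAut.conj_apply,
    MulEquiv.orderOf_eq]

theorem inv_mem_regSet_iff {p : ℕ} {H : Subgroup G} (x : G) :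
    x⁻¹ ∈ regSet p H ↔ x ∈ regSet p H := by
  rw [mem_regSet, mem_regSet, inv_mem_iff, orderOf_inv]

variable [Finite G]

open Classical in
/-- The irreducible characters of the principal `p`-block of `H`. -/
noncomputable def B0 (p : ℕ) (H : Subgroup G) : Finset (G → ℂ) :=
  (Irr H).filter fun χ => ∑ x ∈ fs (regSet p H), χ x ≠ 0

theorem mem_B0 {p : ℕ} {H : Subgroup G} {χ : G → ℂ} :
    χ ∈ B0 p H ↔ χ ∈ Irr H ∧ ∑ x ∈ fs (regSet p H), χ x ≠ 0 := by
  classical exact Finset.mem_filter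

theorem B0_subset (p : ℕ) (H : Subgroup G) : B0 p H ⊆ Irr H := fun _ h => (mem_B0.mp h).1

theorem sum_regSet_cf1 (p : ℕ) (H : Subgroup G) :
    ∑ x ∈ fs (regSet p H), cf1 H x = (fs (regSet p H)).card := by
  rw [sum_fs_congr (g := fun _ => 1) fun x hx => cf1_of_mem hx.1]
  simp

theorem cf1_mem_B0 (p : ℕ) (H : Subgroup G) : cf1 H ∈ B0 p H :=
  mem_B0.mpr ⟨cf1_mem_Irr H, by
    rw [sum_regSet_cf1, Nat.cast_ne_zero, Finset.card_ne_zero]
    exact ⟨1, mem_fs.mpr (one_mem_regSet p H)⟩⟩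

theorem cfAut_mem_B0 {p : ℕ} {H : Subgroup G} {χ : G → ℂ} (u : ℂ →+* ℂ) (h : χ ∈ B0 p H) :
    cfAut u χ ∈ B0 p H :=
  mem_B0.mpr ⟨cfAut_mem_Irr u (mem_B0.mp h).1, by
    simp only [cfAut_apply, ← map_sum]
    exact (map_ne_zero u).mpr (mem_B0.mp h).2⟩

theorem star_mem_B0 {p : ℕ} {H : Subgroup G} {χ : G → ℂ} (h : χ ∈ B0 p H) : star χ ∈ B0 p H :=
  cfAut_conj χ ▸ cfAut_mem_B0 _ h

theorem star_mem_B0_iff {p : ℕ} {H : Subgroup G} {χ : G → ℂ} : star χ ∈ B0 p H ↔ χ ∈ B0 p H :=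
  ⟨fun h => star_star χ ▸ star_mem_B0 h, star_mem_B0⟩

/-- `∑ f(h) χ(h g) = ω_χ(f) χ(g)` for a class function `f` of `H`. -/
theorem sum_mul_apply_mul {H : Subgroup G} {χ f : G → ℂ} (hχ : χ ∈ Irr H) (hf : f ∈ CF H) (g : G) :
    ∑ h ∈ fs (H : Set G), f h * χ (h * g) = (∑ h ∈ fs (H : Set G), f h * χ h) / χ 1 * χ g := by
  by_cases hg : g ∈ H
  · have := Fintype.ofFinite H
    rw [sum_fs_coe, sum_fs_coe]
    exact (mem_Irr.mp hχ).2.sum_mul_mul (isClassFunction_of_mem_CF hf) ⟨g, hg⟩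
  · rw [CF_off (irr_mem_CF hχ) hg, mul_zero]
    refine Finset.sum_eq_zero fun h hh => ?_
    rw [CF_off (irr_mem_CF hχ) (mt (mul_mem_cancel_left (mem_fs.mp hh)).mp hg), mul_zero]

/-- Class multiplication: `χ(1) ∑_{a ∈ H} χ(a x a⁻¹ y) = |H| χ(x) χ(y)`. -/
theorem sum_conj_mul {H : Subgroup G} {χ : G → ℂ} (hχ : χ ∈ Irr H) {x : G} (hx : x ∈ H) (y : G) :
    χ 1 * ∑ a ∈ fs (H : Set G), χ (a * x * a⁻¹ * y) = 𝐨(H) * (χ x * χ y) := by
  classical
  let f : G → ℂ := fun h => ∑ a ∈ fs (H : Set G), if h = a * x * a⁻¹ then 1 else 0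
  have hf : f ∈ CF H := mem_CF.mpr ⟨fun h hh => Finset.sum_eq_zero fun a ha => if_neg
    fun (e : h = _) => hh (e ▸ H.mul_mem (H.mul_mem (mem_fs.mp ha) hx) (H.inv_mem (mem_fs.mp ha))),
    fun g hg h => by
      simp only [f]
      rw [← sum_fs_mul_left hg]
      refine sum_fs_congr fun a _ => if_congr ?_ rfl rfl
      rw [show g * a * x * (g * a)⁻¹ = g * (a * x * a⁻¹) * g⁻¹ by group, mul_left_inj,
        mul_right_inj]⟩
  have h1 : ∀ F : G → ℂ, ∑ h ∈ fs (H : Set G), f h * F h =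
      ∑ a ∈ fs (H : Set G), F (a * x * a⁻¹) := fun F => by
    simp only [f, Finset.sum_mul]
    rw [Finset.sum_comm]
    refine sum_fs_congr fun a ha => ?_
    simp only [ite_mul, one_mul, zero_mul, Finset.sum_ite_eq', mem_fs]
    exact if_pos (mul_mem (mul_mem ha hx) (inv_mem ha))
  have h2 := sum_mul_apply_mul hχ hf y
  rw [h1 fun h => χ (h * y), h1, sum_fs_congr fun a ha => CF_conj (irr_mem_CF hχ) ha x,
    sum_fs_const, nsmul_eq_mul] at h2
  rw [h2]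
  field_simp [irr_one_ne_zero hχ]

/-- The sum of an irreducible character over a coset of a normal subgroup. -/
theorem sum_coset {H N : Subgroup G} (hN : N ⊲ H) {χ : G → ℂ} (hχ : χ ∈ Irr H) (g : G)
    [Decidable (N ≤ cfKer χ)] :
    ∑ n ∈ fs (N : Set G), χ (n * g) = if N ≤ cfKer χ then 𝐨(N) * χ g else 0 := by
  split_ifs with h
  · rw [sum_fs_congr fun n hn => h hn g, sum_fs_const, nsmul_eq_mul]
  · have hf : cf1 N ∈ CF H := mem_CF.mpr ⟨fun x hx => cf1_of_notMem (mt (@hN.1 x) hx),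
      fun a ha x => by
        by_cases hx : x ∈ N
        · rw [cf1_of_mem hx, cf1_of_mem ((mem_normalizer_iff.mp (hN.2 ha) x).mp hx)]
        · rw [cf1_of_notMem hx, cf1_of_notMem (mt (mem_normalizer_iff.mp (hN.2 ha) x).mpr hx)]⟩
    have h1 : ∀ F : G → ℂ, ∑ x ∈ fs (H : Set G), cf1 N x * F x = ∑ x ∈ fs (N : Set G), F x :=
      fun F => by
        rw [← sum_fs_subset (A := (N : Set G)) hN.1 fun x _ hx => by
          rw [cf1_of_notMem hx, zero_mul]]
        exact sum_fs_congr fun x hx => by rw [cf1_of_mem hx, one_mul]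
    have h2 := sum_mul_apply_mul hχ hf g
    rw [h1, h1] at h2
    have h3 : ip N (res N χ) (cf1 N) = 0 := by
      by_contra e
      exact h ((le_cfKer_iff_of_constt_res hN le_rfl hN.2 hχ
        (mem_constt.mpr ⟨cf1_mem_Irr N, e⟩)).mpr (le_cfKer_cf1 N))
    rw [ip_res_left, ip_cf1_right, mul_eq_zero_iff_left (inv_ne_zero (card_ne_zero_C N))] at h3
    rw [h2, h3, zero_div, zero_mul]

end Cfsg.Agent.P1
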