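/-
Principal block, part 1: valuations on `ℂ` over `p`, orbit sums and the trace lemma.
-/
import Cfsg.Agent.P1.Defs

set_option autoImplicit false

namespace Cfsg.Agent.P1

open Cfsg Cfsg.Agent Cfsg.Agent.FT

theorem exists_val {p : ℕ} (hp : p.Prime) : ∃ B : ValuationSubring ℂ, B.valuation p < 1 := by
  obtain ⟨B, -, h⟩ := Ideal.image_subset_nonunits_valuationSubring (A := (⊥ : Subring ℂ))
    (Ideal.span {(p : (⊥ : Subring ℂ))}) fun e => by
      obtain ⟨⟨b, hb⟩, h⟩ := isUnit_iff_exists_inv.mp (Ideal.span_singleton_eq_top.mp e)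
      obtain ⟨m, rfl⟩ := Subring.mem_bot.mp hb
      have h1 : (p : ℤ) * m = 1 := by exact_mod_cast (show (p : ℂ) * m = 1 from congrArg Subtype.val h)
      exact hp.one_lt.ne' (Nat.dvd_one.mp (Int.natCast_dvd_natCast.mp ⟨m, h1.symm⟩))
  exact ⟨B, h ⟨_, Ideal.mem_span_singleton_self _, rfl⟩⟩

theorem exists_cocycle {X : Type*} {p k : ℕ} (hp : p.Prime) {σ : Equiv.Perm X}
    (hσ : σ ^ p ^ k = 1) : ∃ ζ : ℂ, ζ ≠ 1 ∧ ∃ c : X → ℂ, (∀ x, c x ^ p = 1) ∧
      ∀ x, σ x ≠ x → c (σ x) = ζ * c x := by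
  have hζ := Complex.isPrimitiveRoot_exp p hp.ne_zero
  generalize Complex.exp _ = ζ at hζ
  let s := Equiv.Perm.SameCycle.setoid σ
  have h1 : ∀ x, ∃ i : ℤ, (σ ^ i) (Quotient.mk s x).out = x := fun x => Quotient.mk_out (s := s) x
  choose i hi using h1
  have h0 := hζ.ne_zero hp.ne_zero
  refine ⟨ζ, hζ.ne_one hp.one_lt, fun x => ζ ^ i x, fun x => by
    rw [← zpow_natCast, ← zpow_mul, mul_comm, zpow_mul, zpow_natCast, hζ.pow_eq_one, one_zpow],
    fun x hx => ?_⟩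
  have h2 := hi (σ x)
  rw [show Quotient.mk s (σ x) = Quotient.mk s x from
    Quotient.sound (Equiv.Perm.sameCycle_apply_left.mpr .rfl)] at h2
  have h3 := hi x
  generalize (Quotient.mk s x).out = r at h2 h3
  have h4 : (σ ^ (i (σ x) - (1 + i x))) r = r := by
    rw [sub_eq_neg_add, zpow_add, Equiv.Perm.mul_apply, h2, zpow_neg, Equiv.Perm.inv_eq_iff_eq,
      zpow_add, zpow_one, Equiv.Perm.mul_apply, h3]
  have h5 : (p : ℤ) ∣ i (σ x) - (1 + i x) := by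
    by_contra e
    obtain ⟨a, b, h6⟩ := (((Nat.prime_iff_prime_int.mp hp).coprime_iff_not_dvd.mpr
      e).pow_left (m := k))
    have h7 : σ r = r := by
      have := Equiv.Perm.zpow_apply_eq_self_of_apply_eq_self h4 b
      rw [← zpow_mul] at this
      rw [← zpow_one σ, ← h6, zpow_add, Equiv.Perm.mul_apply, mul_comm b, this, mul_comm a,
        zpow_mul, ← Nat.cast_pow, zpow_natCast, hσ, one_zpow, Equiv.Perm.one_apply]
    rw [Equiv.Perm.zpow_apply_eq_self_of_apply_eq_self h7] at h3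
    exact hx (h3 ▸ h7)
  have h6 := (hζ.zpow_eq_one_iff_dvd _).mpr h5
  rw [zpow_sub₀ h0, div_eq_one_iff_eq (zpow_ne_zero _ h0), zpow_add₀ h0, zpow_one] at h6
  exact h6

variable {Γ : Type} [LinearOrderedCommGroupWithZero Γ] {v : Valuation ℂ Γ} {p : ℕ}

theorem val_nat_le (v : Valuation ℂ Γ) (n : ℕ) : v n ≤ 1 := natCast_mem v.integer n

theorem val_nat_eq_one (hv : v p < 1) {n : ℕ} (hn : n.Coprime p) : v n = 1 := by
  obtain ⟨a, b, h⟩ := Nat.isCoprime_iff_coprime.mpr hn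
  have h1 : (a : ℂ) * n = 1 - b * p := by
    rw [eq_sub_iff_add_eq]
    exact_mod_cast h
  have h2 : ∀ a : ℤ, v a ≤ 1 := fun a => intCast_mem v.integer a
  have h3 : v a * v n = 1 := by
    rw [← map_mul, h1, v.map_one_sub_of_lt]
    rw [map_mul]
    exact mul_lt_one_of_nonneg_of_lt_one_right (h2 b) zero_le hv
  exact le_antisymm (val_nat_le v n) (h3 ▸ mul_le_of_le_one_left' (h2 a))

theorem val_mul_lt {a b : ℂ} (ha : v a < 1) (hb : v b ≤ 1) : v (a * b) < 1 :=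
  (map_mul v a b).trans_lt ((mul_le_of_le_one_right' hb).trans_lt ha)

theorem val_mul_lt' {a b : ℂ} (ha : v a ≤ 1) (hb : v b < 1) : v (a * b) < 1 :=
  mul_comm a b ▸ val_mul_lt hb ha

theorem val_mul_le {a b : ℂ} (ha : v a ≤ 1) (hb : v b ≤ 1) : v (a * b) ≤ 1 :=
  (map_mul v a b).trans_le (mul_le_one' ha hb)

theorem val_root_le {z : ℂ} {n : ℕ} (hn : n ≠ 0) (hz : z ^ n = 1) : v z ≤ 1 := by
  rw [← pow_le_one_iff hn, ← map_pow, hz, map_one]

theorem val_root_sub_one (hp : p.Prime) (hv : v p < 1) {z : ℂ} (hz : z ^ p = 1) :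
    v (z - 1) < 1 := by
  have h1 : z - 1 ∈ v.integer := sub_mem (val_root_le hp.ne_zero hz) (one_mem _)
  obtain ⟨r, hr⟩ := exists_add_pow_prime_eq hp (⟨_, h1⟩ : v.integer) 1
  have h2 : (z - 1) ^ p = -(p * ((z - 1) * r)) := by
    have := congrArg Subtype.val hr
    push_cast at this
    rw [sub_add_cancel, hz] at this
    linear_combination -this
  rw [← pow_lt_one_iff hp.ne_zero, ← map_pow, h2, Valuation.map_neg]
  exact val_mul_lt hv (val_mul_le h1 r.2)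

theorem val_sum_moved {X : Type*} [Finite X] {k : ℕ} (hp : p.Prime) (hv : v p < 1)
    {σ : Equiv.Perm X} (hσ : σ ^ p ^ k = 1) {t : X → ℂ} (ht : ∀ x, v (t x) ≤ 1)
    (h : ∀ x, t (σ x) = t x) : v (∑ x ∈ fs {x | σ x ≠ x}, t x) < 1 := by
  obtain ⟨ζ, hζ, c, h1, h2⟩ := exists_cocycle hp hσ
  have h3 := sum_fs_bij (A := {x | σ x ≠ x}) (B := {x | σ x ≠ x}) σ
    ⟨fun x hx => σ.injective.ne hx, σ.injective.injOn, fun x hx => ⟨σ.symm x, fun e => hx (by
      rw [← σ.apply_symm_apply x, e, e]), σ.apply_symm_apply x⟩⟩ fun x => c x * t x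
  rw [sum_fs_congr (g := fun x => ζ * (c x * t x)) fun x hx => by rw [h2 x hx, h, mul_assoc],
    ← Finset.mul_sum, mul_left_eq_self₀, or_iff_right hζ] at h3
  rw [← sub_zero (∑ x ∈ _, _), ← h3, ← Finset.sum_sub_distrib]
  refine v.map_sum_lt one_ne_zero fun x _ => ?_
  rw [← one_sub_mul]
  exact val_mul_lt (v.map_sub_swap _ _ ▸ val_root_sub_one hp hv (h1 x)) (ht x)

theorem exists_val_max {X : Type*} [Finite X] (v : Valuation ℂ Γ) {f : X → ℂ} (hf : f ≠ 0) :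
    ∃ x₀, f x₀ ≠ 0 ∧ ∀ x, v (f x / f x₀) ≤ 1 := by
  obtain ⟨y, hy⟩ := Function.ne_iff.mp hf
  have : Nonempty X := ⟨y⟩
  obtain ⟨x₀, h⟩ := Finite.exists_max fun x => v (f x)
  have h0 : 0 < v (f x₀) := (v.pos_iff.mpr hy).trans_le (h y)
  exact ⟨x₀, v.pos_iff.mp h0, fun x => by rw [map_div₀, div_le_one₀ h0]; exact h x⟩

/-- An order `Λ` in a `ℂ`-algebra together with an ideal inside its radical. -/
structure Lat (v : Valuation ℂ Γ) (A : Type*) [Ring A] [Algebra ℂ A] where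
  Λ : Subring A
  I : AddSubgroup A
  smul_mem : ∀ c, v c ≤ 1 → ∀ a ∈ Λ, c • a ∈ Λ
  smul_mem_I : ∀ c, v c ≤ 1 → ∀ a ∈ I, c • a ∈ I
  mul_left : ∀ a ∈ Λ, ∀ i ∈ I, a * i ∈ I
  mul_right : ∀ a ∈ Λ, ∀ i ∈ I, i * a ∈ I
  unit : ∀ i ∈ I, IsUnit (1 + i)

/-- The trace lemma. -/
theorem Lat.trace_eq_zero {A : Type*} [Ring A] [Algebra ℂ A] (L : Lat v A) {U Y F w : A}
    (hY : Y ∈ L.Λ) (hF : F ∈ L.Λ) (hw : w ∈ L.Λ) (hFF : F * F = F) (hFU : Commute F U)
    (hFY : Commute F Y) (hUY : Commute U Y) {n : ℕ} (hn : v n = 1) (hYn : Y ^ n = 1) {ζ : ℂ}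
    (hζ : ζ ≠ 1) (hUw : U * w = ζ • (w * U)) (hFw : F * w - F ∈ L.I) (τ : A →ₗ[ℂ] ℂ)
    (hτ : ∀ a ∈ L.Λ, ∀ b, τ (a * b) = τ (b * a)) : τ (F * (U * Y)) = 0 := by
  have hn0 : (n : ℂ) ≠ 0 := fun e => by simp [e] at hn
  have hn1 : v (n : ℂ)⁻¹ ≤ 1 := by rw [map_inv₀, hn, inv_one]
  obtain ⟨w', h1, h2, h3, h4⟩ : ∃ w' ∈ L.Λ, Y * w' = w' * Y ∧ U * w' = ζ • (w' * U) ∧
      F * w' - F ∈ L.I := by
    refine ⟨(n : ℂ)⁻¹ • ∑ i ∈ Finset.range n, Y ^ i * w * Y ^ (n - i), L.smul_mem _ hn1 _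
      (sum_mem fun i _ => mul_mem (mul_mem (pow_mem hY _) hw) (pow_mem hY _)), ?_, ?_, ?_⟩
    · rw [mul_smul_comm, smul_mul_assoc, Finset.mul_sum, Finset.sum_mul]
      congr 1
      have h1 := Finset.sum_range_succ (fun i => Y ^ i * w * Y ^ (n + 1 - i)) n
      rw [Finset.sum_range_succ', Nat.add_sub_cancel_left, Nat.sub_zero, hYn, pow_succ, hYn,
        pow_zero, pow_one, one_mul Y, add_left_inj] at h1
      convert h1 using 2 with i _ i hi
      · rw [Nat.add_sub_add_right, pow_succ', mul_assoc, mul_assoc, mul_assoc]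
      · rw [Nat.succ_sub (Finset.mem_range.mp hi).le, pow_succ, mul_assoc (Y ^ i * w)]
    · rw [mul_smul_comm, smul_mul_assoc, smul_comm ζ, Finset.mul_sum, Finset.sum_mul,
        Finset.smul_sum (r := ζ)]
      congr 1
      refine Finset.sum_congr rfl fun i _ => ?_
      rw [← mul_assoc, ← mul_assoc, (hUY.pow_right i).eq, mul_assoc _ U, hUw, mul_smul_comm,
        smul_mul_assoc, mul_assoc, mul_assoc, (hUY.pow_right _).eq, mul_assoc, mul_assoc]
    · have : F = (n : ℂ)⁻¹ • ∑ i ∈ Finset.range n, Y ^ i * F * Y ^ (n - i) := by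
        rw [Finset.sum_congr rfl (g := fun _ => F) fun i hi => by
          rw [← (hFY.pow_right i).eq, mul_assoc, ← pow_add,
            Nat.add_sub_cancel' (Finset.mem_range.mp hi).le, hYn, mul_one], Finset.sum_const,
          Finset.card_range, ← Nat.cast_smul_eq_nsmul ℂ, inv_smul_smul₀ hn0]
      nth_rw 2 [this]
      rw [mul_smul_comm, ← smul_sub, Finset.mul_sum, ← Finset.sum_sub_distrib]
      refine L.smul_mem_I _ hn1 _ (sum_mem fun i _ => ?_)
      rw [← mul_assoc, ← mul_assoc, (hFY.pow_right i).eq, mul_assoc _ F, ← sub_mul, ← mul_sub]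
      exact L.mul_right _ (pow_mem hY _) _ (L.mul_left _ (pow_mem hY _) _ hFw)
  have h5 : F * w' * F + (1 - F) ∈ L.Λ :=
    add_mem (mul_mem (mul_mem hF h1) hF) (sub_mem (one_mem _) hF)
  have h6 := L.unit _ (L.mul_right _ hF _ h4)
  rw [show 1 + (F * w' - F) * F = F * w' * F + (1 - F) by rw [sub_mul, hFF]; abel] at h6
  generalize hW : F * w' * F + (1 - F) = W at h5 h6
  have hT : Commute F (U * Y) := hFU.mul_right hFY
  have h7 : F * (U * Y) * W = ζ • (W * (F * (U * Y))) := by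
    have h8 : F * (U * Y) * F = F * (U * Y) := by rw [mul_assoc, ← hT.eq, ← mul_assoc, hFF]
    have h9 : F * (F * (U * Y)) = F * (U * Y) := by rw [← mul_assoc, hFF]
    rw [← hW, mul_add, add_mul, mul_sub, sub_mul, mul_one, one_mul, h8, h9, sub_self, add_zero,
      add_zero, ← mul_assoc, ← mul_assoc, h8, mul_assoc _ F, h9, mul_assoc F, mul_assoc U, h2,
      ← mul_assoc U, h3, smul_mul_assoc, mul_smul_comm, smul_mul_assoc, hT.eq]
    simp only [mul_assoc]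
  obtain ⟨W, rfl⟩ := h6
  have h8 := congrArg (fun a => τ (a * (W⁻¹ : Aˣ))) h7
  simp only [Units.mul_inv_cancel_right, smul_mul_assoc, map_smul] at h8
  rw [mul_assoc (W : A), hτ _ h5, Units.inv_mul_cancel_right, smul_eq_mul, eq_comm,
    mul_left_eq_self₀] at h8
  exact h8.resolve_left hζ

end Cfsg.Agent.P1
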