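/-
Principal block, part 2: the group algebra, central characters and the block idempotent.
-/
import Cfsg.Agent.P1.A_1

set_option autoImplicit false
set_option linter.unusedSectionVars false

namespace Cfsg.Agent.P1

open Subgroup Cfsg Cfsg.Agent Cfsg.Agent.FT MonoidAlgebra
open scoped ComplexConjugate

universe u

variable {Γ : Type} [LinearOrderedCommGroupWithZero Γ] {v : Valuation ℂ Γ} {p : ℕ}

/-- Integral matrices. -/
def matLat (v : Valuation ℂ Γ) (X : Type*) [Fintype X] [DecidableEq X] : Lat v (Matrix X X ℂ) where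
  Λ :=
    { carrier := {M | ∀ i j, v (M i j) ≤ 1}
      mul_mem' := fun ha hb i j => v.map_sum_le fun k _ => val_mul_le (ha i k) (hb k j)
      one_mem' := fun i j => by rw [Matrix.one_apply]; split_ifs <;> simp
      add_mem' := fun ha hb i j => v.map_add_le (ha i j) (hb i j)
      zero_mem' := fun i j => by simp
      neg_mem' := fun ha i j => (v.map_neg _).trans_le (ha i j) }
  I :=
    { carrier := {M | ∀ i j, v (M i j) < 1}
      add_mem' := fun ha hb i j => v.map_add_lt (ha i j) (hb i j)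
      zero_mem' := fun i j => by simp
      neg_mem' := fun ha i j => (v.map_neg _).trans_lt (ha i j) }
  smul_mem _ hc _ ha i j := val_mul_le hc (ha i j)
  smul_mem_I _ hc _ ha i j := val_mul_lt' hc (ha i j)
  mul_left _ ha _ hb i j := v.map_sum_lt one_ne_zero fun k _ => val_mul_lt' (ha i k) (hb k j)
  mul_right _ ha _ hb i j := v.map_sum_lt one_ne_zero fun k _ => val_mul_lt (hb i k) (ha k j)
  unit M hM := by
    rw [← Matrix.mulVec_injective_iff_isUnit, ← Matrix.coe_mulVecLin, injective_iff_map_eq_zero]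
    intro f hf
    by_contra e
    obtain ⟨x, h1, h2⟩ := exists_val_max v e
    have h3 := congrFun hf x
    rw [Matrix.mulVecLin_apply, Matrix.add_mulVec, Matrix.one_mulVec, Pi.add_apply, Pi.zero_apply,
      add_eq_zero_iff_eq_neg] at h3
    have h4 : v (∑ y, M x y * (f y / f x)) < 1 :=
      v.map_sum_lt one_ne_zero fun y _ => val_mul_lt (hM x y) (h2 y)
    simp only [← mul_div_assoc, ← Finset.sum_div] at h4
    rw [show ∑ y, M x y * f y = -f x from neg_eq_iff_eq_neg.mp h3.symm, neg_div, div_self h1,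
      v.map_neg, map_one] at h4
    exact h4.false

theorem perm_trace {X : Type*} [Fintype X] [DecidableEq X] (hp : p.Prime) (hv : v p < 1)
    {F : Matrix X X ℂ} (hF : ∀ a b, v (F a b) ≤ 1) (hFF : F * F = F) {σ τ : Equiv.Perm X}
    (hc : Commute σ τ) {k n : ℕ} (hσ : σ ^ p ^ k = 1) (hfix : ∀ x, σ x ≠ x) (hτ : τ ^ n = 1)
    (hn : n.Coprime p) (hFσ : ∀ a b, F (σ a) (σ b) = F a b) (hFτ : ∀ a b, F (τ a) (τ b) = F a b) :
    ∑ a, F a (σ (τ a)) = 0 := by
  obtain ⟨ζ, hζ, c, h1, h2⟩ := exists_cocycle (σ := σ⁻¹) (k := k) hp (by rw [inv_pow, hσ, inv_one])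
  let P : Equiv.Perm X →* Matrix X X ℂ := Matrix.permMatrixHom
  have hl : ∀ ρ (M : Matrix X X ℂ) a b, (P ρ * M) a b = M (ρ⁻¹ a) b := fun ρ M a b =>
    congrFun₂ (PEquiv.toMatrix_toPEquiv_mul ρ⁻¹ M) a b
  have hr : ∀ ρ (M : Matrix X X ℂ) a b, (M * P ρ) a b = M a (ρ b) := fun ρ M a b =>
    congrFun₂ (PEquiv.mul_toMatrix_toPEquiv M ρ⁻¹) a b
  have hcm : ∀ ρ : Equiv.Perm X, (∀ a b, F (ρ a) (ρ b) = F a b) → Commute F (P ρ) := fun ρ h =>
    Matrix.ext fun a b => by rw [hl, hr, ← h (ρ⁻¹ a)]; simp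
  have := (matLat v X).trace_eq_zero (U := P σ) (Y := P τ) (F := F) (w := Matrix.diagonal c)
    (fun a b => by rw [← mul_one (P τ), hl]; exact (matLat v X).Λ.one_mem _ _) hF
    (fun a b => by
      rw [Matrix.diagonal_apply]
      split_ifs
      · exact val_root_le hp.ne_zero (h1 a)
      · simp) hFF (hcm σ hFσ) (hcm τ hFτ) (hc.map P) (val_nat_eq_one hv hn)
    (by rw [← map_pow, hτ, map_one]) hζ (Matrix.ext fun a b => by
      rw [Matrix.smul_apply, hl, hr, Matrix.diagonal_apply, Matrix.diagonal_apply, h2 a fun e =>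
        hfix a (Equiv.Perm.inv_eq_iff_eq.mp e).symm]
      simp [Equiv.symm_apply_eq])
    (fun a b => by
      rw [Matrix.sub_apply, Matrix.mul_diagonal, ← mul_sub_one]
      exact val_mul_lt' (hF a b) (val_root_sub_one hp hv (h1 b)))
    (Matrix.traceLinearMap X ℂ ℂ) fun a _ b => Matrix.trace_mul_comm a b
  rw [← map_mul, Matrix.traceLinearMap_apply, Matrix.trace] at this
  simpa only [Matrix.diag, hr, Equiv.Perm.mul_apply] using this

variable {G : Type u} [Group G] [Fintype G]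

/-- A function on `G` as an element of the group algebra. -/
noncomputable def toA (f : G → ℂ) : MonoidAlgebra ℂ G :=
  .ofCoeff (Finsupp.equivFunOnFinite.symm f)

@[simp] theorem coeff_toA (f : G → ℂ) : ⇑(toA f).coeff = f := rfl

theorem coeff_mul' (a b : MonoidAlgebra ℂ G) (g : G) :
    (a * b).coeff g = ∑ h, a.coeff h * b.coeff (h⁻¹ * g) := by
  rw [coeff_mul_apply_left, Finsupp.sum_fintype _ _ fun _ => zero_mul _]

theorem coeff_one' [DecidableEq G] (g : G) :
    (1 : MonoidAlgebra ℂ G).coeff g = if g = 1 then 1 else 0 := by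
  rw [one_def, coeff_single, Finsupp.single_apply]
  simp only [eq_comm]

/-- The linear extension of a function to the group algebra. -/
noncomputable def tr (χ : G → ℂ) : MonoidAlgebra ℂ G →ₗ[ℂ] ℂ :=
  Finsupp.linearCombination ℂ χ ∘ₗ (coeffLinearEquiv ℂ).toLinearMap

theorem tr_apply (χ : G → ℂ) (a : MonoidAlgebra ℂ G) : tr χ a = ∑ g, a.coeff g * χ g :=
  Finsupp.sum_fintype _ _ fun _ => zero_smul _ _

theorem tr_single (χ : G → ℂ) (g : G) : tr χ (single g 1) = χ g :=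
  (Finsupp.linearCombination_single ℂ 1 g).trans (one_smul _ _)

theorem tr_mul (χ : G → ℂ) (a b : MonoidAlgebra ℂ G) :
    tr χ (a * b) = ∑ g, b.coeff g * ∑ h, a.coeff h * χ (h * g) := by
  simp only [tr_apply, coeff_mul', Finset.sum_mul, Finset.mul_sum]
  rw [Finset.sum_comm, Finset.sum_comm (f := fun g h => b.coeff g * _)]
  refine Finset.sum_congr rfl fun h _ => ?_
  rw [← Equiv.sum_comp (Equiv.mulLeft h)]
  simp only [Equiv.coe_mulLeft, inv_mul_cancel_left]
  exact Finset.sum_congr rfl fun g _ => by ring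

theorem sum_univ_eq {H : Subgroup G} {f : G → ℂ} (hf : ∀ g, g ∉ H → f g = 0) (F : G → ℂ) :
    ∑ g, f g * F g = ∑ g ∈ fs (H : Set G), f g * F g :=
  (Finset.sum_subset (Finset.subset_univ _) fun g _ hg => by
    rw [hf g (mt mem_fs.mpr hg), zero_mul]).symm

theorem tr_comm {K : Subgroup G} {χ : G → ℂ} (hχ : χ ∈ CF K) {a : MonoidAlgebra ℂ G}
    (ha : ∀ g, g ∉ K → a.coeff g = 0) (b : MonoidAlgebra ℂ G) : tr χ (a * b) = tr χ (b * a) := by
  simp only [tr_mul, Finset.mul_sum]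
  rw [Finset.sum_comm]
  refine Finset.sum_congr rfl fun g _ => Finset.sum_congr rfl fun h _ => ?_
  by_cases hg : g ∈ K
  · rw [CF_mul_comm hχ hg, mul_left_comm]
  · simp [ha g hg]

/-- The central character. -/
noncomputable def om (χ : G → ℂ) (a : MonoidAlgebra ℂ G) : ℂ := tr χ a / χ 1

theorem tr_central {H : Subgroup G} {χ : G → ℂ} (hχ : χ ∈ Irr H) {a : MonoidAlgebra ℂ G}
    (ha : ⇑a.coeff ∈ CF H) (b : MonoidAlgebra ℂ G) : tr χ (a * b) = om χ a * tr χ b := by
  rw [tr_mul, tr_apply χ b, Finset.mul_sum]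
  refine Finset.sum_congr rfl fun g _ => ?_
  rw [sum_univ_eq ha.1, sum_mul_apply_mul hχ ha, om, tr_apply, sum_univ_eq ha.1]
  ring

theorem om_mul {H : Subgroup G} {χ : G → ℂ} (hχ : χ ∈ Irr H) {a : MonoidAlgebra ℂ G}
    (ha : ⇑a.coeff ∈ CF H) (b : MonoidAlgebra ℂ G) : om χ (a * b) = om χ a * om χ b := by
  rw [om, tr_central hχ ha, mul_div_assoc, om.eq_1 χ b]

theorem om_one {H : Subgroup G} {χ : G → ℂ} (hχ : χ ∈ Irr H) : om χ 1 = 1 := by
  rw [om, one_def, tr_single, div_self (irr_one_ne_zero hχ)]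

theorem om_add (χ : G → ℂ) (a b : MonoidAlgebra ℂ G) : om χ (a + b) = om χ a + om χ b := by
  simp only [om, map_add, add_div]

theorem om_sub (χ : G → ℂ) (a b : MonoidAlgebra ℂ G) : om χ (a - b) = om χ a - om χ b := by
  simp only [om, map_sub, sub_div]

theorem om_smul (χ : G → ℂ) (c : ℂ) (a : MonoidAlgebra ℂ G) : om χ (c • a) = c * om χ a := by
  simp only [om, map_smul, smul_eq_mul, mul_div_assoc]

theorem ip_coeff {H : Subgroup G} {χ : G → ℂ} (hχ : χ ∈ Irr H) {a : MonoidAlgebra ℂ G}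
    (ha : ⇑a.coeff ∈ CF H) : ip H a.coeff χ = (𝐨(H) : ℂ)⁻¹ * (om (star χ) a * χ 1) := by
  rw [om, (irr_isChar hχ).star_one, div_mul_cancel₀ _ (irr_one_ne_zero hχ), tr_apply,
    sum_univ_eq ha.1, ip_def]
  rfl

theorem eq_of_om {H : Subgroup G} {a b : MonoidAlgebra ℂ G} (ha : ⇑a.coeff ∈ CF H)
    (hb : ⇑b.coeff ∈ CF H) (h : ∀ χ ∈ Irr H, om χ a = om χ b) : a = b :=
  coeff_injective (DFunLike.coe_injective (CF_ext_irr ha hb fun χ hχ => by
    rw [ip_coeff hχ ha, ip_coeff hχ hb, h _ (star_mem_Irr hχ)]))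

theorem commute_single_iff {x : G} {a : MonoidAlgebra ℂ G} :
    Commute a (single x 1) ↔ ∀ g, a.coeff (x * g * x⁻¹) = a.coeff g := by
  rw [commute_iff_eq, ← coeff_inj, DFunLike.ext_iff]
  simp only [coeff_mul_single_apply, coeff_single_mul_apply, mul_one, one_mul]
  exact ⟨fun h g => by rw [h, inv_mul_cancel_left], fun h g => by
    rw [← h (x⁻¹ * g), mul_inv_cancel_left]⟩

/-- Elements supported on `K`. -/
def Sup (K : Subgroup G) : Subalgebra ℂ (MonoidAlgebra ℂ G) where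
  carrier := {a | ∀ g, g ∉ K → a.coeff g = 0}
  mul_mem' := fun {a b} ha hb g hg => by
    rw [coeff_mul']
    refine Finset.sum_eq_zero fun h _ => ?_
    by_cases hh : h ∈ K
    · rw [hb _ (mt (mul_mem_cancel_left (inv_mem hh)).mp hg), mul_zero]
    · rw [ha h hh, zero_mul]
  add_mem' := fun {a b} ha hb g hg => by simp [ha g hg, hb g hg]
  algebraMap_mem' := fun c g hg => by
    classical
    rw [coe_algebraMap, Function.comp_apply, coeff_single, Finsupp.single_apply, if_neg fun (e : 1 = g) =>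
      hg (e ▸ K.one_mem)]

theorem single_mem_Sup {K : Subgroup G} {x : G} (hx : x ∈ K) : single x 1 ∈ Sup K :=
  fun g hg => by classical rw [coeff_single, Finsupp.single_apply, if_neg fun (e : x = g) => hg (e ▸ hx)]

/-- The centre of the group algebra of `H`. -/
noncomputable def Zc (H : Subgroup G) : Subalgebra ℂ (MonoidAlgebra ℂ G) :=
  Sup H ⊓ Subalgebra.centralizer ℂ ((fun x => single x 1) '' (H : Set G))

theorem mem_Zc {H : Subgroup G} {a : MonoidAlgebra ℂ G} : a ∈ Zc H ↔ ⇑a.coeff ∈ CF H := by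
  rw [Zc, Algebra.mem_inf, Subalgebra.mem_centralizer_iff, mem_CF, Set.forall_mem_image]
  exact and_congr Iff.rfl (forall₂_congr fun x _ => eq_comm.trans commute_single_iff)

theorem Zc_commute {H : Subgroup G} {a b : MonoidAlgebra ℂ G} (ha : a ∈ Zc H) (hb : b ∈ Sup H) :
    Commute a b := by
  rw [commute_iff_eq, ← coeff_inj, DFunLike.ext_iff]
  intro g
  rw [coeff_mul_apply_right, coeff_mul_apply_left, Finsupp.sum, Finsupp.sum]
  refine Finset.sum_congr rfl fun h hh => ?_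
  rw [mul_comm, CF_mul_comm (mem_Zc.mp ha) (inv_mem (by_contra fun e =>
    Finsupp.mem_support_iff.mp hh (hb h e)))]

/-- The integral group ring, and the ideal generated by the maximal ideal. -/
def grpLat (v : Valuation ℂ Γ) (K : Subgroup G) : Lat v (MonoidAlgebra ℂ G) where
  Λ :=
    { carrier := {a | a ∈ Sup K ∧ ∀ g, v (a.coeff g) ≤ 1}
      mul_mem' := fun ha hb => ⟨mul_mem ha.1 hb.1, fun g => by
        rw [coeff_mul']
        exact v.map_sum_le fun k _ => val_mul_le (ha.2 _) (hb.2 _)⟩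
      one_mem' := ⟨one_mem _, fun g => by classical rw [coeff_one']; split_ifs <;> simp⟩
      add_mem' := fun ha hb => ⟨add_mem ha.1 hb.1, fun g => v.map_add_le (ha.2 g) (hb.2 g)⟩
      zero_mem' := ⟨zero_mem _, fun g => by simp⟩
      neg_mem' := fun ha => ⟨neg_mem ha.1, fun g => (v.map_neg _).trans_le (ha.2 g)⟩ }
  I :=
    { carrier := {a | ∀ g, v (a.coeff g) < 1}
      add_mem' := fun ha hb g => v.map_add_lt (ha g) (hb g)
      zero_mem' := fun g => by simp
      neg_mem' := fun ha g => (v.map_neg _).trans_lt (ha g) }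
  smul_mem c hc _ ha := ⟨Subalgebra.smul_mem _ ha.1 c, fun g => val_mul_le hc (ha.2 g)⟩
  smul_mem_I _ hc _ ha g := val_mul_lt' hc (ha g)
  mul_left _ ha _ hb g := by
    rw [coeff_mul']
    exact v.map_sum_lt one_ne_zero fun k _ => val_mul_lt' (ha.2 _) (hb _)
  mul_right _ ha _ hb g := by
    rw [coeff_mul']
    exact v.map_sum_lt one_ne_zero fun k _ => val_mul_lt (hb _) (ha.2 _)
  unit a ha := by
    rw [← Algebra.lmul_isUnit_iff (R := ℂ), LinearMap.isUnit_iff_ker_eq_bot, LinearMap.ker_eq_bot']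
    intro b hb
    by_contra e
    obtain ⟨x, h1, h2⟩ := exists_val_max v (f := b.coeff) fun e' =>
      e (coeff_injective (DFunLike.coe_injective e'))
    have h3 : ∑ h, a.coeff h * b.coeff (h⁻¹ * x) = -b.coeff x := by
      rw [← coeff_mul', eq_neg_iff_add_eq_zero, add_comm, ← Finsupp.add_apply, ← coeff_add,
        ← one_add_mul]
      exact congrArg (fun c : MonoidAlgebra ℂ G => c.coeff x) hb
    have h4 : v (∑ h, a.coeff h * (b.coeff (h⁻¹ * x) / b.coeff x)) < 1 :=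
      v.map_sum_lt one_ne_zero fun y _ => val_mul_lt (ha _) (h2 _)
    simp only [← mul_div_assoc, ← Finset.sum_div] at h4
    rw [h3, neg_div, div_self h1, v.map_neg, map_one] at h4
    exact h4.false

/-- The integral centre. -/
noncomputable def ZL (v : Valuation ℂ Γ) (H : Subgroup G) : Subring (MonoidAlgebra ℂ G) :=
  (grpLat v H).Λ ⊓ (Zc H).toSubring

theorem mem_ZL {H : Subgroup G} {a : MonoidAlgebra ℂ G} :
    a ∈ ZL v H ↔ ⇑a.coeff ∈ CF H ∧ ∀ g, v (a.coeff g) ≤ 1 :=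
  ⟨fun h => ⟨mem_Zc.mp h.2, h.1.2⟩, fun h => ⟨⟨h.1.1, h.2⟩, mem_Zc.mpr h.1⟩⟩

theorem smul_mem_ZL {H : Subgroup G} {a : MonoidAlgebra ℂ G} {c : ℂ} (hc : v c ≤ 1)
    (ha : a ∈ ZL v H) : c • a ∈ ZL v H :=
  ⟨(grpLat v H).smul_mem c hc a ha.1, Subalgebra.smul_mem _ ha.2 c⟩

theorem val_om_le {H : Subgroup G} {χ : G → ℂ} (hχ : χ ∈ Irr H) {a : MonoidAlgebra ℂ G}
    (ha : a ∈ ZL v H) : v (om χ a) ≤ 1 := by
  obtain ⟨x, h1, h2⟩ := exists_val_max v (irr_ne_zero hχ)
  have h3 := tr_central hχ (mem_ZL.mp ha).1 (single x 1)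
  rw [tr_single, ← div_eq_iff h1, tr_comm (irr_mem_CF hχ) ha.1.1, tr_mul] at h3
  rw [← h3, Finset.sum_div]
  refine v.map_sum_le fun g _ => ?_
  rw [mul_div_assoc, ← tr_apply (fun h => χ (h * g)), tr_single]
  exact val_mul_le ((mem_ZL.mp ha).2 g) (h2 _)

/-- The functions on `Irr H` given by central characters of integral central elements. -/
def omRing (v : Valuation ℂ Γ) (H : Subgroup G) : Subring ((G → ℂ) → ℂ) where
  carrier := {F | ∃ a ∈ ZL v H, ∀ χ ∈ Irr H, om χ a = F χ}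
  mul_mem' := fun ⟨a, ha, h⟩ ⟨b, hb, h'⟩ => ⟨a * b, mul_mem ha hb, fun χ hχ => by
    rw [om_mul hχ (mem_ZL.mp ha).1, h χ hχ, h' χ hχ, Pi.mul_apply]⟩
  one_mem' := ⟨1, one_mem _, fun χ hχ => om_one hχ⟩
  add_mem' := fun ⟨a, ha, h⟩ ⟨b, hb, h'⟩ => ⟨a + b, add_mem ha hb, fun χ hχ => by
    rw [om_add, h χ hχ, h' χ hχ, Pi.add_apply]⟩
  zero_mem' := ⟨0, zero_mem _, fun χ _ => by simp [om]⟩
  neg_mem' := fun ⟨a, ha, h⟩ => ⟨-a, neg_mem ha, fun χ hχ => by
    rw [Pi.neg_apply, ← h χ hχ, om, om, map_neg, neg_div]⟩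

theorem const_mem_omRing (H : Subgroup G) {c : ℂ} (hc : v c ≤ 1) :
    (fun _ => c) ∈ omRing v H :=
  ⟨c • 1, smul_mem_ZL hc (one_mem _), fun χ hχ => by rw [om_smul, om_one hχ, mul_one]⟩

/-- The principal block defined by central characters. -/
def InB (v : Valuation ℂ Γ) (H : Subgroup G) (χ : G → ℂ) : Prop :=
  ∀ a ∈ ZL v H, v (om χ a - om (cf1 H) a) < 1

open Classical in
theorem exists_idem (v : Valuation ℂ Γ) (H : Subgroup G) :
    ∃ E ∈ ZL v H, ∀ χ ∈ Irr H, om χ E = if InB v H χ then 1 else 0 := by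
  have h1 : ∀ ψ, ∃ a ∈ ZL v H, ¬ InB v H ψ → ¬ v (om ψ a - om (cf1 H) a) < 1 := fun ψ => by
    by_cases h : InB v H ψ
    · exact ⟨0, zero_mem _, fun e => absurd h e⟩
    · obtain ⟨a, h⟩ := not_forall.mp h
      exact ⟨a, (Classical.not_imp.mp h).1, fun _ => (Classical.not_imp.mp h).2⟩
  choose z hz h1 using h1
  let F : (G → ℂ) → ℂ := ∏ ψ ∈ Irr H with ¬ InB v H ψ, ((fun χ => om χ (z ψ)) - fun _ => om ψ (z ψ))
  have hF : F ∈ omRing v H := prod_mem fun ψ hψ => sub_mem ⟨z ψ, hz ψ, fun _ _ => rfl⟩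
    (const_mem_omRing H (val_om_le (Finset.mem_filter.mp hψ).1 (hz ψ)))
  have h2 : ∀ χ ∈ Irr H, InB v H χ → v (F χ) = 1 := fun χ hχ h => by
    simp only [F]
    rw [Finset.prod_apply, map_prod]
    refine Finset.prod_eq_one fun ψ hψ => ?_
    obtain ⟨h2, h3⟩ := Finset.mem_filter.mp hψ
    have h4 : v (om ψ (z ψ) - om (cf1 H) (z ψ)) = 1 := le_antisymm (v.map_sub_le
      (val_om_le h2 (hz ψ)) (val_om_le (cf1_mem_Irr H) (hz ψ))) (not_lt.mp (h1 ψ h3))
    rw [Pi.sub_apply, ← sub_sub_sub_cancel_right _ _ (om (cf1 H) (z ψ)),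
      v.map_sub_eq_of_lt_right (h4 ▸ h _ (hz ψ)), h4]
  obtain ⟨E, hE, h3⟩ : 1 - ∏ ψ ∈ Irr H with InB v H ψ, (1 - F * fun _ => (F ψ)⁻¹) ∈ omRing v H :=
    sub_mem (one_mem _) (prod_mem fun ψ hψ => sub_mem (one_mem _) (mul_mem hF
      (const_mem_omRing H (by
        rw [map_inv₀, h2 ψ (Finset.mem_filter.mp hψ).1 (Finset.mem_filter.mp hψ).2, inv_one]))))
  refine ⟨E, hE, fun χ hχ => ?_⟩
  rw [h3 χ hχ, Pi.sub_apply, Finset.prod_apply, Pi.one_apply]
  split_ifs with h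
  · rw [Finset.prod_eq_zero (Finset.mem_filter.mpr ⟨hχ, h⟩), sub_zero]
    have : F χ ≠ 0 := fun e => by simpa [e] using h2 χ hχ h
    simp [this]
  · have : F χ = 0 := by
      simp only [F]
      rw [Finset.prod_apply]
      exact Finset.prod_eq_zero (Finset.mem_filter.mpr ⟨hχ, h⟩) (sub_self _)
    simp [this]

end Cfsg.Agent.P1
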