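/-
Principal block, part 3: weak orthogonality, Brauer's second and third main theorems.
-/
import Cfsg.Agent.P1.A_2

set_option autoImplicit false
set_option linter.unusedSectionVars false

namespace Cfsg.Agent.P1

open Subgroup Cfsg Cfsg.Agent Cfsg.Agent.FT MonoidAlgebra
open scoped ComplexConjugate

universe u

variable {Γ : Type} [LinearOrderedCommGroupWithZero Γ] {v : Valuation ℂ Γ} {p : ℕ}

section
variable {G : Type u} [Group G] [Fintype G]

theorem weak_orth (hp : p.Prime) (hv : v p < 1) {H : Subgroup G} {E : MonoidAlgebra ℂ G}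
    (hE : E ∈ ZL v H) (hEE : E * E = E) {x g : G} (hx : (orderOf x).Coprime p)
    (hg : p ∣ orderOf g) : ∑ χ ∈ Irr H, om (star χ) E * (χ g * χ x) = 0 := by
  classical
  by_cases hxg : ¬ (x ∈ H ∧ g ∈ H)
  · refine Finset.sum_eq_zero fun χ hχ => ?_
    rcases not_and_or.mp hxg with h | h <;> simp [CF_off (irr_mem_CF hχ) h]
  obtain ⟨hxH, hgH⟩ := not_not.mp hxg
  obtain ⟨hC, hI⟩ := mem_ZL.mp hE
  obtain ⟨a, b, ha, hb, e, hab, ⟨k, h1⟩, h2⟩ := H8.exists_pPart_pPrimePart hp g⁻¹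
  replace ha := zpowers_le.mpr (inv_mem hgH) ha
  replace hb := zpowers_le.mpr (inv_mem hgH) hb
  have := Fintype.ofFinite H
  have h3 := perm_trace (X := H) (k := k) (n := orderOf x * orderOf b) hp hv
    (F := Matrix.of fun c d => E.coeff (c * d⁻¹)) (fun c d => hI _) (Matrix.ext fun c d => by
      rw [Matrix.mul_apply]
      simp only [Matrix.of_apply]
      nth_rw 3 [← hEE]
      rw [coeff_mul', sum_univ_eq hC.1, ← sum_fs_mul_left c.2, ← sum_fs_inv, sum_fs_coe]
      exact Finset.sum_congr rfl fun j _ => by simp [mul_assoc])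
    (σ := Equiv.mulRight ⟨a, ha⟩) (τ := Equiv.mulLeft ⟨x⁻¹, inv_mem hxH⟩ * Equiv.mulRight ⟨b, hb⟩)
    (Equiv.ext fun c => Subtype.ext (by simp [mul_assoc, hab.eq]))
    (by rw [Equiv.pow_mulRight, show (⟨a, ha⟩ : H) ^ p ^ k = 1 from
      Subtype.ext (h1 ▸ pow_orderOf_eq_one a), Equiv.mulRight_one])
    (fun c hc => by
      have : a = 1 := by simpa using hc
      rw [this, one_mul] at e
      rw [← e, orderOf_inv] at h2
      exact hp.one_lt.ne' (Nat.eq_one_of_dvd_coprimes h2 hg dvd_rfl))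
    (by
      rw [Commute.mul_pow (Equiv.ext fun c => mul_assoc _ _ _ |>.symm), Equiv.pow_mulLeft,
        Equiv.pow_mulRight, show (⟨b, hb⟩ : H) ^ (orderOf x * orderOf b) = 1 from Subtype.ext
          (by simp [mul_comm (orderOf x), pow_mul]),
        show (⟨x⁻¹, inv_mem hxH⟩ : H) ^ (orderOf x * orderOf b) = 1 from Subtype.ext
          (by simp [pow_mul]), Equiv.mulRight_one, Equiv.mulLeft_one, one_mul])
    (Nat.Coprime.mul_left hx h2) (fun c d => by simp [mul_assoc]) fun c d => by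
      simpa [mul_assoc] using CF_conj' hC hxH (c * (d : G)⁻¹)
  rw [← h3, Finset.sum_congr rfl (g := fun c : H => ∑ χ ∈ Irr H, ip H E.coeff χ *
    χ (c * g * (c : G)⁻¹ * x)) fun c _ => by
      rw [← apply_eq_sum_irr hC, ← inv_inv g, e, hab.eq]
      simp [mul_assoc], Finset.sum_comm]
  refine Finset.sum_congr rfl fun χ hχ => ?_
  rw [← Finset.mul_sum, ← sum_fs_coe H fun c => χ (c * g * c⁻¹ * x), ip_coeff hχ hC, mul_assoc,
    mul_assoc, sum_conj_mul hχ hgH, mul_left_comm _ (𝐨(H) : ℂ),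
    inv_mul_cancel_left₀ (card_ne_zero_C H)]

/-- The characteristic function of the `p`-regular elements. -/
noncomputable def rho (p : ℕ) (H : Subgroup G) : G → ℂ := (regSet p H).indicator 1

theorem rho_of_mem {H : Subgroup G} {x : G} (h : x ∈ regSet p H) : rho p H x = 1 :=
  Set.indicator_of_mem h _

theorem rho_of_notMem {H : Subgroup G} {x : G} (h : x ∉ regSet p H) : rho p H x = 0 :=
  Set.indicator_of_notMem h _

theorem rho_congr {H K : Subgroup G} {x y : G} (h : x ∈ regSet p H ↔ y ∈ regSet p K) :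
    rho p H x = rho p K y := by
  by_cases hy : y ∈ regSet p K
  · rw [rho_of_mem hy, rho_of_mem (h.mpr hy)]
  · rw [rho_of_notMem hy, rho_of_notMem (mt h.mp hy)]

theorem rho_mem_CF (p : ℕ) (H : Subgroup G) : rho p H ∈ CF H :=
  mem_CF.mpr ⟨fun _ hx => rho_of_notMem fun e => hx e.1, fun _ hg x =>
    rho_congr (conj_mem_regSet_iff (le_normalizer hg) x)⟩

theorem val_rho_le (v : Valuation ℂ Γ) (H : Subgroup G) (x : G) : v (rho p H x) ≤ 1 := by
  by_cases hx : x ∈ regSet p H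
  · rw [rho_of_mem hx, map_one]
  · rw [rho_of_notMem hx, map_zero]; exact zero_le

theorem sum_rho_mul (H : Subgroup G) (f : G → ℂ) :
    ∑ x, rho p H x * f x = ∑ x ∈ fs (regSet p H), f x := by
  rw [← Finset.sum_subset (Finset.subset_univ (fs (regSet p H))) fun x _ hx => by
    rw [rho_of_notMem (mt mem_fs.mpr hx), zero_mul]]
  exact sum_fs_congr fun x hx => by rw [rho_of_mem hx, one_mul]

theorem ip_rho_of_orth (hp : p.Prime) {H : Subgroup G} {e : (G → ℂ) → ℂ} (h1 : e (cf1 H) = 1)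
    (h : ∀ x g : G, (orderOf x).Coprime p → p ∣ orderOf g → ∑ χ ∈ Irr H, e χ * (χ g * χ x) = 0)
    {χ : G → ℂ} (hχ : χ ∈ Irr H) : ip H (rho p H) χ = e χ * ip H (rho p H) χ := by
  have h2 : ∀ (f : G → ℂ) (y : G), (∀ x ∈ H, f x ≠ 0 →
      ∑ χ ∈ Irr H, e χ * (χ x⁻¹ * χ y) = 0) → ∑ χ ∈ Irr H, e χ * ip H f χ * χ y = 0 :=
    fun f y hf => by
      have : ∀ χ ∈ Irr H, e χ * ip H f χ * χ y = ∑ x ∈ fs (H : Set G),
          (𝐨(H) : ℂ)⁻¹ * f x * (e χ * (χ x⁻¹ * χ y)) := fun χ hχ => by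
        simp only [ip_def, Finset.mul_sum, Finset.sum_mul, (irr_isChar hχ).apply_inv]
        exact Finset.sum_congr rfl fun x _ => by ring
      rw [Finset.sum_congr rfl this, Finset.sum_comm]
      refine Finset.sum_eq_zero fun x hx => ?_
      rw [← Finset.mul_sum]
      by_cases h0 : f x = 0
      · simp [h0]
      · rw [hf x (mem_fs.mp hx) h0, mul_zero]
  have h3 : rho p H = ∑ χ ∈ Irr H, (e χ * ip H (rho p H) χ) • χ :=
    CF_ext (rho_mem_CF p H) (sum_mem fun χ hχ => Submodule.smul_mem _ _ (irr_mem_CF hχ))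
      fun y hy => by
        simp only [Finset.sum_apply, Pi.smul_apply, smul_eq_mul]
        by_cases h4 : (orderOf y).Coprime p
        · have h5 := h2 (cf1 H - rho p H) y fun x hx h0 => h y x⁻¹ h4 (by
            rw [orderOf_inv]
            by_contra e
            exact h0 (by rw [Pi.sub_apply, cf1_of_mem hx, rho_of_mem
              ⟨hx, ((Nat.Prime.coprime_iff_not_dvd hp).mpr e).symm⟩, sub_self]))
          simp only [ip_sub_left, mul_sub, sub_mul, Finset.sum_sub_distrib] at h5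
          rw [Finset.sum_eq_single_of_mem _ (cf1_mem_Irr H) fun ψ hψ e => by
            rw [ip_irr_of_ne (cf1_mem_Irr H) hψ e.symm, mul_zero, zero_mul], h1, ip_cf1_cf1,
            cf1_of_mem hy, sub_eq_zero] at h5
          rw [← h5, rho_of_mem ⟨hy, h4⟩, mul_one, mul_one]
        · rw [rho_of_notMem fun e => h4 e.2, h2 _ y fun x hx h0 => ?_]
          simp only [mul_comm (_ : ℂ) ((_ : G → ℂ) y)]
          refine h x⁻¹ y ?_ (by_contra fun e => h4 ((Nat.Prime.coprime_iff_not_dvd hp).mpr e).symm)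
          rw [orderOf_inv]
          by_contra e
          exact h0 (rho_of_notMem fun e' => e e'.2)
  nth_rw 1 [h3]
  exact (on_Irr H).ip_sum_smul _ hχ

theorem val_sum_lt (hp : p.Prime) (hv : v p < 1) {u : G} {k : ℕ} (hu : u ^ p ^ k = 1) {t : G → ℂ}
    (ht : ∀ x, v (t x) ≤ 1) (h : ∀ x, t (u * x * u⁻¹) = t x)
    (h' : ∀ x, u * x * u⁻¹ = x → v (t x) < 1) : v (∑ x, t x) < 1 := by
  rw [← sum_fs_top, sum_fs_diff (A := {x | u * x * u⁻¹ ≠ x}) fun _ _ => mem_top _]
  exact v.map_add_lt (val_sum_moved (σ := MulAut.toPerm G (MulAut.conj u)) (k := k) hp hv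
    (by rw [← map_pow, ← map_pow, hu, map_one, map_one]) ht h)
    (v.map_sum_lt one_ne_zero fun x hx => h' x (not_not.mp (mem_fs.mp hx).2))

theorem rho_eq_of_fixed {K : Subgroup G} {u x : G} (h : u * x * u⁻¹ = x) :
    rho p K x = rho p (K ⊓ 𝐂[u]) x :=
  rho_congr (and_congr_left' (mem_inf.trans (and_iff_left
    (mem_centralizer_singleton_iff.mpr (mul_inv_eq_iff_eq_mul.mp h).symm))).symm)

theorem val_sum_rho_sub (hp : p.Prime) (hv : v p < 1) {K : Subgroup G} {u : G} {k : ℕ}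
    (hK : u ∈ K) (hu : u ^ p ^ k = 1) :
    v (∑ x, rho p K x - ∑ x, rho p (K ⊓ 𝐂[u]) x) < 1 := by
  rw [← Finset.sum_sub_distrib]
  refine val_sum_lt hp hv hu (fun x => v.map_sub_le (val_rho_le v _ x) (val_rho_le v _ x))
    (fun x => ?_) fun x hx => by simp [rho_eq_of_fixed hx]
  rw [CF_conj (rho_mem_CF p K) hK, CF_conj (rho_mem_CF p _)
    (mem_inf.mpr ⟨hK, mem_centralizer_singleton_iff.mpr rfl⟩)]

theorem val_sum_rho (hp : p.Prime) (hv : v p < 1) (H : Subgroup G) : v (∑ x, rho p H x) = 1 := by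
  induction H using H1.subgroup_strong_induction with
  | h H ih =>
  have := Fact.mk hp
  by_cases h : ∀ u ∈ H, ∀ k, u ^ p ^ k = 1 → H ≤ 𝐂[u]
  · obtain ⟨P⟩ := (inferInstance : Nonempty (Sylow p H))
    have h1 := H8.hasNPC_iff_forall_mem_pPrimeCore.mp (H8.hasNPC_of_normalizer_le_centralizer P
      fun g _ x hx => by
        obtain ⟨k, hk⟩ := P.isPGroup' ⟨x, hx⟩
        exact Subtype.ext (mem_centralizer_singleton_iff.mp (h x x.2 k
          (congrArg (fun z : P => ((z : H) : G)) hk) g.2)).symm)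
    have h2 : regSet p H = H2.pPrimeCoreOf p H := Set.ext fun x => ⟨fun hx =>
      ⟨⟨x, hx.1⟩, h1 _ (by rw [orderOf_mk]; exact hx.2), rfl⟩, fun hx =>
      ⟨H2.pPrimeCoreOf_le p H hx, (H2.coprime_card_pPrimeCoreOf p H).coprime_dvd_left
        (orderOf_dvd_card_of_mem hx)⟩⟩
    have h3 := sum_rho_mul (p := p) H 1
    simp only [Pi.one_apply, mul_one] at h3
    rw [h3, h2, sum_fs_const, nsmul_one]
    exact val_nat_eq_one hv (H2.coprime_card_pPrimeCoreOf p H)
  · push Not at h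
    obtain ⟨u, h1, k, h2, h3⟩ := h
    have h4 := ih _ (inf_lt_left.mpr h3)
    rw [← h4]
    exact v.map_eq_of_sub_lt (h4 ▸ val_sum_rho_sub hp hv h1 h2)

theorem toA_rho_mem (v : Valuation ℂ Γ) (H : Subgroup G) : toA (rho p H) ∈ ZL v H :=
  mem_ZL.mpr ⟨rho_mem_CF p H, val_rho_le v H⟩

theorem om_toA_rho (H : Subgroup G) (χ : G → ℂ) :
    om χ (toA (rho p H)) = (∑ x ∈ fs (regSet p H), χ x) / χ 1 := by
  rw [om, tr_apply, coeff_toA, sum_rho_mul]

theorem om_cf1_rho (H : Subgroup G) : om (cf1 H) (toA (rho p H)) = ∑ x, rho p H x := by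
  rw [om_toA_rho, cf1_one, div_one, sum_fs_congr (g := 1) fun x hx => cf1_of_mem hx.1,
    ← sum_rho_mul]
  simp

theorem inB_iff (hp : p.Prime) (hv : v p < 1) {H : Subgroup G} {χ : G → ℂ} (hχ : χ ∈ Irr H) :
    InB v H χ ↔ χ ∈ B0 p H := by
  refine ⟨fun h => mem_B0.mpr ⟨hχ, fun e => ?_⟩, fun h => by_contra fun e => (mem_B0.mp h).2 ?_⟩
  · have := h _ (toA_rho_mem (p := p) v H)
    rw [om_cf1_rho, om_toA_rho, e, zero_div, zero_sub, v.map_neg, val_sum_rho hp hv] at this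
    exact this.false
  · obtain ⟨E, hE, h1⟩ := exists_idem v H
    have h2 := ip_rho_of_orth hp (e := fun χ => om (star χ) E) (by
      simp only [star_cf1]
      rw [h1 _ (cf1_mem_Irr H), if_pos (show InB v H (cf1 H) from fun a _ => by simp)]) (fun x g => weak_orth hp hv hE
        (eq_of_om (mem_ZL.mp (mul_mem hE hE)).1 (mem_ZL.mp hE).1 fun ψ hψ => by
          rw [om_mul hψ (mem_ZL.mp hE).1, h1 ψ hψ]; split_ifs <;> simp)) (star_mem_Irr hχ)
    rw [star_star, h1 χ hχ, if_neg e, zero_mul, ip_def, mul_eq_zero_iff_left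
      (inv_ne_zero (card_ne_zero_C H)), ← sum_univ_eq (rho_mem_CF p H).1, sum_rho_mul] at h2
    simpa [star_apply'] using h2

/-- `1 - σ/n`, where `σ` is the sum of the `n` elements of order prime to `p`. -/
noncomputable def sElt (p : ℕ) (H : Subgroup G) : MonoidAlgebra ℂ G :=
  1 - (∑ x, rho p H x)⁻¹ • toA (rho p H)

theorem sElt_mem (hp : p.Prime) (hv : v p < 1) (H : Subgroup G) : sElt p H ∈ ZL v H :=
  sub_mem (one_mem _) (smul_mem_ZL (by rw [map_inv₀, val_sum_rho hp hv, inv_one])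
    (toA_rho_mem v H))

theorem exists_block_idem (hp : p.Prime) (hv : v p < 1) (H : Subgroup G) :
    ∃ E ∈ ZL v H, E * E = E ∧ (∀ χ ∈ Irr H, om χ E = if χ ∈ B0 p H then 1 else 0) ∧
      ∀ k, (B0 p H).card ≤ k → 1 - E - sElt p H ^ k ∈ (grpLat v H).I := by
  obtain ⟨E, hE, h1⟩ := exists_idem v H
  replace h1 : ∀ χ ∈ Irr H, om χ E = if χ ∈ B0 p H then 1 else 0 := fun χ hχ => by
    simp only [h1 χ hχ, inB_iff hp hv hχ]
  have hs := sElt_mem hp hv H
  have hn := val_sum_rho hp hv H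
  have hn0 : ∑ x, rho p H x ≠ 0 := fun e => by simp [e] at hn
  have h2 : ∀ χ ∈ B0 p H, v (om χ (sElt p H)) < 1 := fun χ hχ => by
    have := (inB_iff hp hv (B0_subset p H hχ)).mpr hχ _ (toA_rho_mem (p := p) v H)
    rw [sElt, om_sub, om_smul, om_one (B0_subset p H hχ), ← inv_mul_cancel₀ hn0, ← mul_sub,
      map_mul, map_inv₀, hn, inv_one, one_mul, v.map_sub_swap, ← om_cf1_rho]
    exact this
  have h3 : sElt p H * (1 - E) = 1 - E := eq_of_om
    (mem_ZL.mp (mul_mem hs (sub_mem (one_mem _) hE))).1 (mem_ZL.mp (sub_mem (one_mem _) hE)).1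
    fun χ hχ => by
      rw [om_mul hχ (mem_ZL.mp hs).1, om_sub χ 1 E, om_one hχ, h1 χ hχ]
      split_ifs with h
      · simp
      · rw [sElt, om_sub, om_smul, om_one hχ, om_toA_rho,
          not_not.mp (mt (fun e => mem_B0.mpr ⟨hχ, e⟩) h)]
        simp
  have h4 : ∀ S ⊆ B0 p H, ∃ b ∈ ZL v H, b - sElt p H ^ S.card ∈ (grpLat v H).I ∧
      ∀ χ ∈ Irr H, om χ b = ∏ ψ ∈ S, (om χ (sElt p H) - om ψ (sElt p H)) := by
    intro S
    induction S using Finset.induction_on with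
    | empty => exact fun _ => ⟨1, one_mem _, by simp, fun χ hχ => om_one hχ⟩
    | insert ψ S hψ ih =>
      intro hS
      obtain ⟨b, hb, h4, h5⟩ := ih ((Finset.subset_insert _ _).trans hS)
      have h6 := h2 ψ (hS (Finset.mem_insert_self _ _))
      refine ⟨sElt p H * b - om ψ (sElt p H) • b, sub_mem (mul_mem hs hb) (smul_mem_ZL h6.le hb),
        ?_, fun χ hχ => by
          rw [om_sub, om_smul, om_mul hχ (mem_ZL.mp hs).1, h5 χ hχ, Finset.prod_insert hψ, sub_mul]⟩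
      rw [Finset.card_insert_of_notMem hψ, pow_succ', sub_right_comm, ← mul_sub]
      exact sub_mem ((grpLat v H).mul_left _ hs.1 _ h4) fun g => val_mul_lt h6 (hb.1.2 g)
  refine ⟨E, hE, eq_of_om (mem_ZL.mp (mul_mem hE hE)).1 (mem_ZL.mp hE).1 fun ψ hψ => by
    rw [om_mul hψ (mem_ZL.mp hE).1, h1 ψ hψ]; split_ifs <;> simp, h1, fun k hk => ?_⟩
  obtain ⟨b, hb, h5, h6⟩ := h4 _ subset_rfl
  have h7 : b * E = 0 := eq_of_om (mem_ZL.mp (mul_mem hb hE)).1 (mem_ZL.mp (zero_mem (ZL v H))).1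
    fun χ hχ => by
      rw [om_mul hχ (mem_ZL.mp hb).1, h1 χ hχ, h6 χ hχ]
      split_ifs with h
      · rw [Finset.prod_eq_zero (f := fun ψ => om χ (sElt p H) - om ψ (sElt p H)) h (sub_self _)]
        simp [om]
      · simp [om]
  have h8 : ∀ j, sElt p H ^ j * (1 - E) = 1 - E := fun j => by
    induction j with
    | zero => simp
    | succ j ih => rw [pow_succ, mul_assoc, h3, ih]
  obtain ⟨j, rfl⟩ := Nat.exists_eq_add_of_le' hk
  have := (grpLat v H).mul_left _ (pow_mem hs.1 j) _ ((grpLat v H).mul_right _ hE.1 _ h5)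
  rwa [sub_mul, h7, zero_sub, mul_neg, ← mul_assoc, ← pow_add, ← zero_sub, ← sub_self (1 - E),
    sub_sub, ← h8 (j + (B0 p H).card), ← mul_add, sub_add_cancel, mul_one, h8] at this

/-- Integral elements commuting with `u`. -/
noncomputable def LU (v : Valuation ℂ Γ) (u : G) : Subring (MonoidAlgebra ℂ G) :=
  (grpLat v ⊤).Λ ⊓ Subring.centralizer {single u 1}

/-- The kernel of the Brauer map at `u`. -/
def JU (v : Valuation ℂ Γ) (u : G) : AddSubgroup (MonoidAlgebra ℂ G) where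
  carrier := {a | ∀ g, u * g * u⁻¹ = g → v (a.coeff g) < 1}
  add_mem' := fun ha hb g hg => v.map_add_lt (ha g hg) (hb g hg)
  zero_mem' := fun g _ => by simp
  neg_mem' := fun ha g hg => (v.map_neg _).trans_lt (ha g hg)

theorem mem_LU {u : G} {a : MonoidAlgebra ℂ G} : a ∈ LU v u ↔
    (∀ g, v (a.coeff g) ≤ 1) ∧ ∀ g, a.coeff (u * g * u⁻¹) = a.coeff g := by
  rw [LU, Subring.mem_inf, Subring.mem_centralizer_iff, ← commute_single_iff]
  exact and_congr (and_iff_right fun g hg => absurd (mem_top g) hg)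
    ⟨fun h => (h _ rfl).symm, fun h _ e => e ▸ h.eq.symm⟩

theorem mem_LU_of_ZL {H : Subgroup G} {u : G} (hu : u ∈ H) {a : MonoidAlgebra ℂ G}
    (ha : a ∈ ZL v H) : a ∈ LU v u :=
  mem_LU.mpr ⟨(mem_ZL.mp ha).2, CF_conj (mem_ZL.mp ha).1 hu⟩

theorem mul_mem_JU (hp : p.Prime) (hv : v p < 1) {u : G} {k : ℕ} (hu : u ^ p ^ k = 1)
    {a b : MonoidAlgebra ℂ G} (ha : a ∈ LU v u) (hb : b ∈ LU v u) (h : a ∈ JU v u ∨ b ∈ JU v u) :
    a * b ∈ JU v u := fun g hg => by
  obtain ⟨h1, h2⟩ := mem_LU.mp ha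
  obtain ⟨h3, h4⟩ := mem_LU.mp hb
  have h5 : ∀ x, u * (x⁻¹ * g) * u⁻¹ = (u * x * u⁻¹)⁻¹ * g := fun x => by
    nth_rw 2 [← hg]; group
  rw [coeff_mul']
  refine val_sum_lt hp hv hu (fun x => val_mul_le (h1 _) (h3 _))
    (fun x => by rw [h2, ← h5, h4]) fun x hx => ?_
  rcases h with h | h
  · exact val_mul_lt (h x hx) (h3 _)
  · exact val_mul_lt' (h1 _) (h _ (by rw [h5, hx]))

theorem tr_eq_zero_of_JU (hp : p.Prime) (hv : v p < 1) {K : Subgroup G} {u y : G} {k : ℕ}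
    (hu : u ^ p ^ k = 1) (hy : y ∈ regSet p K) (huy : Commute u y) {F : MonoidAlgebra ℂ G}
    (hF : F ∈ (grpLat v K).Λ) (hFF : F * F = F) (hFu : Commute F (single u 1))
    (hFy : Commute F (single y 1)) (hJ : F ∈ JU v u) {χ : G → ℂ} (hχ : χ ∈ CF K) :
    tr χ (F * single (u * y) 1) = 0 := by
  classical
  obtain ⟨ζ, hζ, c, h1, h2⟩ := exists_cocycle (σ := MulAut.toPerm G (MulAut.conj u⁻¹)) (k := k) hp
    (by rw [← map_pow, ← map_pow, inv_pow, hu, inv_one, map_one, map_one])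
  replace h2 : ∀ x, u⁻¹ * x * u⁻¹⁻¹ ≠ x → c (u⁻¹ * x * u⁻¹⁻¹) = ζ * c x := h2
  rw [inv_inv] at h2
  have h3 := commute_single_iff.mp hFu
  have := (grpLat v K).trace_eq_zero (U := single u 1) (Y := single y 1) (F := F)
    (w := toA fun g => if u * g * u⁻¹ = g then 0 else c g * F.coeff g)
    ⟨single_mem_Sup hy.1, fun g => by
      rw [coeff_single, Finsupp.single_apply]; split_ifs <;> simp⟩ hF
    ⟨fun g hg => by simp [hF.1 g hg], fun g => by
      rw [coeff_toA]
      split_ifs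
      · simp
      · exact val_mul_le (val_root_le hp.ne_zero (h1 g)) (hF.2 g)⟩ hFF hFu hFy
    (single_commute_single huy (.refl _)) (val_nat_eq_one hv hy.2)
    (by rw [single_pow, pow_orderOf_eq_one, one_pow, one_def]) hζ
    (coeff_injective (Finsupp.ext fun g => by
      obtain ⟨x, rfl⟩ := (Group.mulRight_bijective u).2 g
      simp only [coeff_single_mul_apply, coeff_smul_apply, coeff_mul_single_apply, coeff_toA,
        one_mul, mul_one, smul_eq_mul, mul_inv_cancel_right, ← mul_assoc, mul_inv_cancel]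
      have h4 : x = u⁻¹ * x * u ↔ u * x * u⁻¹ = x := by
        rw [mul_assoc, eq_inv_mul_iff_mul_eq, mul_inv_eq_iff_eq_mul]
      by_cases h : u * x * u⁻¹ = x
      · rw [if_pos h, if_pos (h4.mpr h), mul_zero]
      · rw [if_neg h, if_neg (mt h4.mp h), h2 x (Ne.symm (mt h4.mp h)), ← h3, mul_assoc ζ]
        simp [mul_assoc]))
    (by
      nth_rw 3 [← hFF]
      rw [← mul_sub]
      refine (grpLat v K).mul_left _ hF _ fun g => ?_
      rw [coeff_sub, Finsupp.sub_apply, coeff_toA]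
      split_ifs with h
      · rw [zero_sub, v.map_neg]; exact hJ g h
      · rw [← sub_one_mul]
        exact val_mul_lt (val_root_sub_one hp hv (h1 g)) (hF.2 g))
    (tr χ) fun a ha => tr_comm hχ ha.1
  rwa [single_mul_single, one_mul] at this

theorem tr_block_idem {K C : Subgroup G} (hC : C ≤ K) {E : MonoidAlgebra ℂ G} (hE : E ∈ ZL v C)
    (h : ∀ φ ∈ Irr C, om φ E = if φ ∈ B0 p C then 1 else 0) {χ : G → ℂ} (hχ : χ ∈ CF K) {x : G}
    (hx : x ∈ C) : tr χ (E * single x 1) = ∑ φ ∈ B0 p C, ip C χ φ * φ x := by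
  have h1 : E * single x 1 ∈ Sup C := mul_mem hE.1.1 (single_mem_Sup hx)
  rw [tr_apply, sum_univ_eq h1, sum_fs_congr (g := fun g => ∑ φ ∈ Irr C, ip C χ φ *
    ((E * single x 1).coeff g * φ g)) fun g hg => by
      rw [← res_of_mem χ hg, apply_eq_sum_irr (res_mem_CF hC hχ), Finset.mul_sum]
      exact Finset.sum_congr rfl fun φ _ => by rw [ip_res_left, mul_left_comm], Finset.sum_comm,
    Finset.sum_congr rfl (g := fun φ => if φ ∈ B0 p C then ip C χ φ * φ x else 0) fun φ hφ => by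
      rw [← Finset.mul_sum, ← sum_univ_eq h1, ← tr_apply, tr_central hφ (mem_ZL.mp hE).1, h φ hφ,
        tr_single]
      split_ifs <;> simp, Finset.sum_ite_mem, Finset.inter_eq_right.mpr (B0_subset p C)]

end

variable {G : Type u} [Group G] [Finite G]

/-- A1: weak block orthogonality. -/
theorem sum_B0_reg_sing (hp : p.Prime) (H : Subgroup G) {x g : G} (hx : (orderOf x).Coprime p)
    (hg : p ∣ orderOf g) : ∑ χ ∈ B0 p H, χ x * conj (χ g) = 0 := by
  have := Fintype.ofFinite G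
  obtain ⟨B, hv⟩ := exists_val hp
  obtain ⟨E, hE, h1, h2, -⟩ := exists_block_idem hp hv H
  have h3 := weak_orth hp hv hE h1 hx (orderOf_inv g ▸ hg : p ∣ orderOf g⁻¹)
  rwa [Finset.sum_congr rfl (g := fun χ => if χ ∈ B0 p H then χ x * conj (χ g) else 0)
    fun χ hχ => by
      rw [h2 _ (star_mem_Irr hχ), (irr_isChar hχ).apply_inv]
      simp only [star_mem_B0_iff]
      split_ifs <;> simp [mul_comm], Finset.sum_ite_mem,
    Finset.inter_eq_right.mpr (B0_subset p H)] at h3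

/-- A4: Brauer's second and third main theorems for the principal block. -/
theorem B0_second (hp : p.Prime) {K : Subgroup G} {u y : G} {k : ℕ} (hu : u ∈ K)
    (huk : u ^ p ^ k = 1) (hy : y ∈ regSet p (K ⊓ 𝐂[u])) {χ : G → ℂ} (hχ : χ ∈ Irr K) :
    ∑ φ ∈ B0 p (K ⊓ 𝐂[u]), ip (K ⊓ 𝐂[u]) χ φ * φ (u * y) =
      if χ ∈ B0 p K then χ (u * y) else 0 := by
  have := Fintype.ofFinite G
  obtain ⟨B, hv⟩ := exists_val hp
  have huC : u ∈ K ⊓ 𝐂[u] := mem_inf.mpr ⟨hu, mem_centralizer_singleton_iff.mpr rfl⟩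
  obtain ⟨E, hE, h1, h2, h3⟩ := exists_block_idem hp hv K
  obtain ⟨D, hD, h4, h5, h6⟩ := exists_block_idem hp hv (K ⊓ 𝐂[u])
  have hs := mem_LU_of_ZL hu (sElt_mem hp hv K)
  have hs' := mem_LU_of_ZL huC (sElt_mem hp hv (K ⊓ 𝐂[u]))
  have h7 : sElt p K - sElt p (K ⊓ 𝐂[u]) ∈ JU B.valuation u := fun g hg => by
    have h7 := val_sum_rho hp hv K
    have h8 := val_sum_rho hp hv (K ⊓ 𝐂[u])
    simp only [sElt, sub_sub_sub_cancel_left, coeff_sub, Finsupp.sub_apply, coeff_smul_apply,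
      coeff_toA, smul_eq_mul]
    rw [rho_eq_of_fixed (K := K) hg, ← sub_mul, inv_sub_inv (fun e => by simp [e] at h8)
      (fun e => by simp [e] at h7)]
    refine val_mul_lt ?_ (val_rho_le _ _ _)
    rw [map_div₀, map_mul, h7, h8, mul_one, div_one]
    exact val_sum_rho_sub hp hv hu huk
  have h8 : ∀ j, sElt p K ^ j - sElt p (K ⊓ 𝐂[u]) ^ j ∈ JU B.valuation u := fun j => by
    induction j with
    | zero => simp
    | succ j ih =>
      rw [pow_succ', pow_succ', ← sub_add_sub_cancel _ (sElt p K * sElt p (K ⊓ 𝐂[u]) ^ j),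
        ← mul_sub, ← sub_mul]
      exact add_mem (mul_mem_JU hp hv huk hs (sub_mem (pow_mem hs j) (pow_mem hs' j)) (.inr ih))
        (mul_mem_JU hp hv huk (sub_mem hs hs') (pow_mem hs' j) (.inl h7))
  have h9 : E - D ∈ JU B.valuation u := by
    have := sub_mem (sub_mem (show _ ∈ JU B.valuation u from fun g _ => h6 _ (le_max_right
      (B0 p K).card _) g) fun g _ => h3 _ (le_max_left _ (B0 p (K ⊓ 𝐂[u])).card) g)
      (h8 (max (B0 p K).card (B0 p (K ⊓ 𝐂[u])).card))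
    convert this using 1
    abel
  have hE' := mem_LU_of_ZL hu hE
  have hD' := mem_LU_of_ZL huC hD
  have hDK : D ∈ (grpLat B.valuation K).Λ := ⟨fun g hg => hD.1.1 g fun e => hg e.1, hD.1.2⟩
  have hED : Commute E D := Zc_commute hE.2 hDK.1
  have hEx : ∀ x ∈ K ⊓ 𝐂[u], Commute E (single x 1) := fun x hx =>
    Zc_commute hE.2 (single_mem_Sup hx.1)
  have hDx : ∀ x ∈ K ⊓ 𝐂[u], Commute D (single x 1) := fun x hx =>
    Zc_commute hD.2 (single_mem_Sup hx)
  have key := fun F a b c d e => tr_eq_zero_of_JU hp hv huk (K := K) ⟨hy.1.1, hy.2⟩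
    (mem_centralizer_singleton_iff.mp hy.1.2).symm (F := F) a b c d e (irr_mem_CF hχ)
  rw [← tr_block_idem inf_le_left hD h5 (irr_mem_CF hχ) (mul_mem huC hy.1)]
  split_ifs with h
  · have := key (E * (1 - D)) (mul_mem hE.1 (sub_mem (one_mem _) hDK))
      (IsIdempotentElem.mul_of_commute ((Commute.one_right _).sub_right hED) h1
        (IsIdempotentElem.one_sub h4))
      ((hEx u huC).mul_left ((Commute.one_left _).sub_left (hDx u huC)))
      ((hEx y hy.1).mul_left ((Commute.one_left _).sub_left (hDx y hy.1))) (by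
        rw [show E * (1 - D) = (E - D) * (1 - D) by rw [sub_mul, mul_sub D, h4, mul_one]; simp]
        exact mul_mem_JU hp hv huk (sub_mem hE' hD') (sub_mem (one_mem _) hD') (.inl h9))
    rw [mul_assoc, tr_central hχ (mem_ZL.mp hE).1, h2 χ hχ, if_pos h, one_mul, sub_mul, one_mul,
      map_sub, tr_single, sub_eq_zero] at this
    exact this.symm
  · have := key ((1 - E) * D) (mul_mem (sub_mem (one_mem _) hE.1) hDK)
      (IsIdempotentElem.mul_of_commute ((Commute.one_left _).sub_left hED)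
        (IsIdempotentElem.one_sub h1) h4)
      (((Commute.one_left _).sub_left (hEx u huC)).mul_left (hDx u huC))
      (((Commute.one_left _).sub_left (hEx y hy.1)).mul_left (hDx y hy.1)) (by
        rw [show (1 - E) * D = -((E - D) * D) by rw [sub_mul, sub_mul, h4, one_mul, neg_sub]]
        exact neg_mem (mul_mem_JU hp hv huk (sub_mem hE' hD') hD' (.inl h9)))
    rwa [mul_assoc, sub_mul, one_mul, map_sub, tr_central hχ (mem_ZL.mp hE).1, h2 χ hχ, if_neg h,
      zero_mul, sub_zero] at this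

/-- A5: normal `p'`-subgroups are in the kernel of the principal block. -/
theorem le_cfKer_of_mem_B0 {H N : Subgroup G} (hN : N ⊲ H) (hc : (𝐨(N)).Coprime p) {φ : G → ℂ}
    (hφ : φ ∈ B0 p H) : N ≤ cfKer φ := by
  classical
  by_contra e
  obtain ⟨h1, h2⟩ := mem_B0.mp hφ
  have h3 : ∀ n ∈ N, ∀ x ∈ regSet p H, n * x ∈ regSet p H := fun n hn x hx =>
    ⟨mul_mem (hN.1 hn) hx.1, (Nat.Coprime.mul_left (Nat.card_zpowers x ▸ hx.2) hc).coprime_dvd_left
      ((orderOf_dvd_card_of_mem (mul_mem (mem_sup_right hn) (mem_sup_left (mem_zpowers x)))).trans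
        (H1.card_sup_dvd ((zpowers_le.mpr hx.1).trans hN.2)))⟩
  have h4 : ∑ n ∈ fs (N : Set G), ∑ x ∈ fs (regSet p H), φ (n * x) = 0 := by
    rw [Finset.sum_comm]
    exact Finset.sum_eq_zero fun x _ => by rw [sum_coset hN h1, if_neg e]
  rw [sum_fs_congr fun n hn => sum_fs_bij (A := regSet p H) (B := regSet p H) (n * ·)
    ⟨h3 n hn, (mul_right_injective n).injOn, fun x hx =>
      ⟨_, h3 _ (inv_mem hn) x hx, mul_inv_cancel_left n x⟩⟩ φ, sum_fs_const, nsmul_eq_mul] at h4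
  exact mul_ne_zero (card_ne_zero_C N) h2 h4

/-- A5': `χ(u y z) = χ(u y)` for `z ∈ O_{p'}(C_K(u))`. -/
theorem B0_apply_mul (hp : p.Prime) {K N : Subgroup G} {u y z : G} {k : ℕ} (hu : u ∈ K)
    (huk : u ^ p ^ k = 1) (hy : y ∈ regSet p (K ⊓ 𝐂[u])) (hN : N ⊲ K ⊓ 𝐂[u])
    (hc : (𝐨(N)).Coprime p) (hz : z ∈ N) {χ : G → ℂ} (hχ : χ ∈ B0 p K) :
    χ (u * y * z) = χ (u * y) := by
  have h1 := B0_second hp hu huk hy (B0_subset p K hχ)
  have h2 := B0_second hp hu huk (y := y * z) ⟨mul_mem hy.1 (hN.1 hz),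
    (Nat.Coprime.mul_left (Nat.card_zpowers y ▸ hy.2) hc).coprime_dvd_left
      ((orderOf_dvd_card_of_mem (mul_mem (mem_sup_left (mem_zpowers y)) (mem_sup_right hz))).trans
        (H1.card_sup_dvd ((zpowers_le.mpr hy.1).trans hN.2)))⟩ (B0_subset p K hχ)
  rw [if_pos hχ] at h1 h2
  rw [mul_assoc, ← h1, ← h2]
  refine Finset.sum_congr rfl fun φ hφ => ?_
  rw [← mul_assoc u, apply_mul_of_mem_cfKer (irr_mem_CF (B0_subset _ _ hφ))
    (le_cfKer_of_mem_B0 hN hc hφ hz)]

/-- A6: the principal block of a group with a normal `p`-complement. -/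
theorem B0_eq_irrKer (hp : p.Prime) {H N : Subgroup G} {k : ℕ} (hN : N ⊲ H)
    (hc : (𝐨(N)).Coprime p) (hk : N.relIndex H = p ^ k) : B0 p H = irrKer H N := by
  ext φ
  refine ⟨fun h => mem_irrKer.mpr ⟨B0_subset p H h, le_cfKer_of_mem_B0 hN hc h⟩, fun h => ?_⟩
  obtain ⟨h1, h2⟩ := mem_irrKer.mp h
  have h3 : regSet p H = N := Set.ext fun x => ⟨fun hx => by
      have := (normal_subgroupOf_iff_le_normalizer hN.1).mpr hN.2
      exact H8.mem_of_coprime_index (N := N.subgroupOf H) (g := ⟨x, hx.1⟩) (by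
        rw [orderOf_mk, ← relIndex, hk]; exact hx.2.pow_right k),
    fun hx => ⟨hN.1 hx, hc.coprime_dvd_left (orderOf_dvd_card_of_mem hx)⟩⟩
  refine mem_B0.mpr ⟨h1, ?_⟩
  rw [h3, sum_fs_congr fun x hx => apply_of_mem_cfKer (h2 hx), sum_fs_const, nsmul_eq_mul]
  exact mul_ne_zero (card_ne_zero_C N) (irr_one_ne_zero h1)

end Cfsg.Agent.P1
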