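/-
The principal block: weak orthogonality, Brauer's second and third main theorems
(proved in `P1/A_*.lean`).
-/
import Cfsg.Agent.P1.Defs
import Cfsg.Agent.P1.A_3
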