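/-
Frobenius integrality: `|H|_p · 1_{p-regular}` is a virtual character.
-/
import Cfsg.Agent.P1.A_3
import Cfsg.Agent.H5.Brauer

set_option autoImplicit false
set_option linter.unusedSectionVars false

namespace Cfsg.Agent.P1

open Subgroup Cfsg Cfsg.Agent Cfsg.Agent.FT
open scoped ComplexConjugate

universe u

variable {G : Type u} [Group G] [Finite G] {p : ℕ}

theorem regSet_eq_of_normal {H N : Subgroup G} {k : ℕ} (hN : N ⊲ H) (hc : (𝐨(N)).Coprime p)
    (hk : N.relIndex H = p ^ k) : regSet p H = N :=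
  Set.ext fun x => ⟨fun hx => by
      have := (normal_subgroupOf_iff_le_normalizer hN.1).mpr hN.2
      exact H8.mem_of_coprime_index (N := N.subgroupOf H) (g := ⟨x, hx.1⟩) (by
        rw [orderOf_mk, ← relIndex, hk]; exact hx.2.pow_right k),
    fun hx => ⟨hN.1 hx, hc.coprime_dvd_left (orderOf_dvd_card_of_mem hx)⟩⟩

theorem exists_npc {H : Subgroup G} (hp : p.Prime) (h : HasNormalPComplement p H) :
    ∃ N : Subgroup G, N ⊲ H ∧ (𝐨(N)).Coprime p ∧ ∃ k, N.relIndex H = p ^ k := by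
  have := Fact.mk hp
  obtain ⟨N, h1, h2, k, h3⟩ := H8.hasNPC_iff_exists.mp h
  refine ⟨N.map H.subtype, ⟨map_subtype_le _, (normal_subgroupOf_iff_le_normalizer
    (map_subtype_le _)).mp ?_⟩, by rwa [card_subtype], k, ?_⟩
  · rwa [subgroupOf, comap_map_eq_self_of_injective H.subtype_injective]
  · rwa [relIndex, subgroupOf, comap_map_eq_self_of_injective H.subtype_injective]

theorem smul_rho_mem_VChar (hp : p.Prime) {H Q : Subgroup G} (hQ : Q ≤ H)
    (hi : ¬ p ∣ Q.relIndex H) : (𝐨(Q) : ℂ) • rho p H ∈ VChar H := by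
  have := Fintype.ofFinite G
  have := Fact.mk hp
  refine H5.vchar_of_nilpotent (Submodule.smul_mem _ _ (rho_mem_CF p H)) fun E hE hn => ?_
  obtain ⟨N, h1, h2, k, h3⟩ := exists_npc (H := E) hp (H8.hasNPC_of_isNilpotent p)
  obtain ⟨m, hm⟩ : p ^ k ∣ 𝐨(Q) := (Nat.Coprime.pow_left k
    (hp.coprime_iff_not_dvd.mpr hi)).dvd_of_dvd_mul_right (by
      rw [H1.card_mul_relIndex hQ, ← h3]
      exact (relIndex_dvd_card _ _).trans (Subgroup.card_dvd_of_le hE))
  have h4 : res E (rho p H) = cf1 N := funext fun x => by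
    by_cases hx : x ∈ N
    · rw [cf1_of_mem hx, res_of_mem _ (h1.1 hx), rho_of_mem
        ⟨hE (h1.1 hx), h2.coprime_dvd_left (orderOf_dvd_card_of_mem hx)⟩]
    · rw [cf1_of_notMem hx]
      by_cases hx' : x ∈ E
      · rw [res_of_mem _ hx', rho_of_notMem fun e =>
          hx ((regSet_eq_of_normal h1 h2 h3).le ⟨hx', e.2⟩)]
      · exact res_of_notMem _ hx'
  rw [map_smul, h4, hm, ← h3, Nat.cast_mul, mul_comm, mul_smul, ← ind_cf1_normal h1]
  exact vchar_nat_smul (vchar_ind h1.1 (cf1_mem_VChar N)) m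

set_option linter.unusedVariables false in
/-- A8. -/
theorem sum_regSet_eq_int_mul (hp : p.Prime) {H Q : Subgroup G} (hQ : Q ≤ H) (hQp : IsPGroup p Q)
    (hi : ¬ p ∣ Q.relIndex H) {φ : G → ℂ} (hφ : φ ∈ VChar H) :
    ∃ n : ℤ, ∑ x ∈ fs (regSet p H), φ x = n * Q.relIndex H := by
  have := Fintype.ofFinite G
  obtain ⟨n, hn⟩ := vchar_ip_int (smul_rho_mem_VChar hp hQ hi) (vchar_star hφ)
  refine ⟨n, ?_⟩
  rw [ip_smul_left, ip_def, ← sum_univ_eq (rho_mem_CF p H).1, sum_rho_mul,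
    ← H1.card_mul_relIndex hQ, Nat.cast_mul, mul_inv, mul_assoc,
    mul_inv_cancel_left₀ (card_ne_zero_C Q), inv_mul_eq_iff_eq_mul₀ (CH1.relIndex_ne_zero_C _ _),
    mul_comm] at hn
  simpa [star_apply'] using hn

end Cfsg.Agent.P1
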