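/-
Frobenius integrality: `|H|_p · 1_{p-regular}` has integral inner products (proved in `P1/F_1.lean`).
-/
import Cfsg.Agent.P1.Defs
import Cfsg.Agent.P1.F_1
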