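/-
Brauer-Suzuki: the class multiplication argument.
-/
import Cfsg.Agent.P1.Block
import Cfsg.Agent.P1.Frob
import Cfsg.Agent.L.Invol

set_option autoImplicit false

namespace Cfsg.Agent.P1.BS

open Subgroup Cfsg Cfsg.Agent Cfsg.Agent.FT
open scoped ComplexConjugate commutatorElement

universe u

variable {G : Type u} [Group G] [Finite G] {t : G}

omit [Finite G] in
theorem mul_self (ht : orderOf t = 2) : t * t = 1 := by
  rw [← sq, ← ht, pow_orderOf_eq_one]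

theorem odd_conj_mul (ht : orderOf t = 2) (h : ∀ s, orderOf s = 2 → Commute t s → s = t) (a : G) :
    Odd (orderOf (a * t * a⁻¹ * t)) := by
  have h1 := mul_self ht
  have h2 : a * t * a⁻¹ * (a * t * a⁻¹) = 1 := by rw [conj_mul, h1, mul_one, mul_inv_cancel]
  by_contra e
  obtain ⟨k, h3, h4, -, h5⟩ := L.exists_invol_commute_of_even h2 h1 (Nat.not_odd_iff_even.mp e)
  have h6 := h _ (orderOf_eq_prime (by rw [sq, h4]) h3) h5.symm
  have h7 : Commute t (a * t * a⁻¹ * t) := by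
    nth_rw 1 [← h6]; exact (Commute.refl _).pow_left k
  have h8 := h (a * t * a⁻¹) (by rw [← MulAut.conj_apply, MulEquiv.orderOf_eq, ht])
    (by simpa using h7.mul_right (Commute.refl t).inv_right)
  simp [h8, h1] at e

theorem dirr_sum_conj_mul {α : G → ℂ} (hα : Dirr ⊤ α) :
    α 1 * ∑ a ∈ fs ((⊤ : Subgroup G) : Set G), α (a * t * a⁻¹ * t) =
      𝐨((⊤ : Subgroup G)) * α t ^ 2 := by
  rcases hα with h | h
  · rw [sum_conj_mul h (mem_top t), sq]
  · simpa [sq] using sum_conj_mul h (mem_top t) t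

/-- The final step of the Brauer-Suzuki theorem. -/
theorem of_three (ht : orderOf t = 2) (h : ∀ s, orderOf s = 2 → Commute t s → s = t)
    {α β : G → ℂ} (hα : Dirr ⊤ α) (hβ : Dirr ⊤ β) (h1 : ip ⊤ α (cf1 ⊤) = 0)
    (h0 : ∀ x, Odd (orderOf x) → 1 + α x + β x = 0) (h2 : β t ^ 2 = (1 + α t) ^ 2) :
    ∃ N : Subgroup G, N.Normal ∧ N ≠ ⊤ ∧ t ∈ N := by
  have h3 := Finset.sum_eq_zero (s := fs ((⊤ : Subgroup G) : Set G))
    fun a _ => h0 _ (odd_conj_mul ht h a)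
  rw [Finset.sum_add_distrib, Finset.sum_add_distrib, sum_fs_const, nsmul_eq_mul] at h3
  have h4 := dirr_sum_conj_mul (t := t) hα
  have h5 := dirr_sum_conj_mul (t := t) hβ
  have h6 := h0 1 (by simp)
  have h7 : (𝐨((⊤ : Subgroup G)) : ℂ) * (α t - α 1) ^ 2 = 0 := by
    rw [h2] at h5
    linear_combination β 1 * h4 + α 1 * h5 - α 1 * β 1 * h3 +
      (𝐨((⊤ : Subgroup G)) : ℂ) * (α 1 + α t ^ 2) * h6
  rw [mul_eq_zero_iff_left (card_ne_zero_C _), sq_eq_zero_iff, sub_eq_zero] at h7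
  obtain ⟨ε, hε, χ, hχ, rfl⟩ := hα.exists_sign
  have h8 : (ε : ℂ) ≠ 0 := by rcases hε with rfl | rfl <;> simp
  refine ⟨cfKer χ, normalizer_eq_top_iff.mp (top_le_iff.mp (le_norm_cfKer (irr_mem_CF hχ))),
    fun e => ?_, (irr_isChar hχ).mem_cfKer_iff.mpr (mul_left_cancel₀ h8 h7)⟩
  rw [(irr_eq_cf1_iff hχ).mpr e.ge, ip_smul_left, ip_irr_self (cf1_mem_Irr _), mul_one] at h1
  exact h8 h1

theorem exists_three {H : Subgroup G} {θ : G → ℂ} (hθ : θ ∈ VChar H) (h3 : nsq H θ = 3)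
    (h1 : ip H θ (cf1 H) = 1) : ∃ α β, Dirr H α ∧ Dirr H β ∧ ip H α (cf1 H) = 0 ∧
      ip H β (cf1 H) = 0 ∧ ip H α β = 0 ∧ θ = cf1 H + α + β := by
  classical
  have h4 := ip_irr_self (cf1_mem_Irr H)
  obtain ⟨E, h5, h6, h7, h8⟩ := vchar_small_norm (sub_mem hθ (cf1_mem_VChar H)) (n := 2)
    (nsq_eq_of_ip (by
      rw [ip_sub_left, ip_sub_right, ip_sub_right, ip_self, h3, h1, h4, ← conj_ip, h1]
      norm_num)) (by norm_num)
  obtain ⟨α, β, hne, rfl⟩ := Finset.card_eq_two.mp h5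
  rw [Finset.sum_pair hne] at h8
  have hα := h6 α (by simp)
  have hβ := h6 β (by simp)
  have h9 := h7.2 α (by simp) β (by simp) hne
  have h10 : ip H α (cf1 H) + ip H β (cf1 H) = 0 := by
    rw [← ip_add_left, ← h8, ip_sub_left, h1, h4, sub_self]
  have h11 : ip H α (cf1 H) = 0 := by
    rcases hα.ip_cases (Or.inl (cf1_mem_Irr H)) with e | e | e
    · rw [e] at h9 h10
      simp [h4, ip_eq_zero_symm h9] at h10
    · rw [e, ip_neg_left, neg_eq_zero] at h9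
      simp [e, h4, ip_eq_zero_symm h9] at h10
    · exact e
  exact ⟨α, β, hα, hβ, h11, by rwa [h11, zero_add] at h10, h9, by rw [add_assoc, ← h8]; abel⟩

/-- The form used for `|S| ≥ 16`. -/
theorem of_norm_three (ht : orderOf t = 2) (h : ∀ s, orderOf s = 2 → Commute t s → s = t)
    {θ : G → ℂ} (hθ : θ ∈ VChar ⊤) (h3 : nsq ⊤ θ = 3) (h1 : ip ⊤ θ (cf1 ⊤) = 1)
    (h0 : ∀ x, Odd (orderOf x) → θ x = 0) (h2 : θ t = 0) :
    ∃ N : Subgroup G, N.Normal ∧ N ≠ ⊤ ∧ t ∈ N := by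
  obtain ⟨α, β, hα, hβ, h4, -, -, rfl⟩ := exists_three hθ h3 h1
  refine of_three ht h hα hβ h4 (fun x hx => by simpa using h0 x hx) ?_
  simp only [Pi.add_apply, cf1_top_apply] at h2
  rw [eq_neg_of_add_eq_zero_right h2, neg_sq]

end Cfsg.Agent.P1.BS
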