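/-
Brauer-Suzuki: the case of an inverted element of order divisible by 8.
-/
import Cfsg.Agent.P1.B_0
import Cfsg.Agent.H8.ThompsonTransfer
import Cfsg.Agent.H3.DQ

set_option autoImplicit false

namespace Cfsg.Agent.P1.BS

open Subgroup Cfsg Cfsg.Agent Cfsg.Agent.FT
open scoped ComplexConjugate commutatorElement

universe u

variable {G : Type u} [Group G] [Finite G] {t : G}

theorem four_dvd_iff (x : G) : 4 ∣ orderOf x ↔ 2 ∣ orderOf (x ^ 2) := by
  rw [orderOf_pow]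
  rcases Nat.even_or_odd' (orderOf x) with ⟨k, hk | hk⟩
  · rw [hk, Nat.gcd_mul_right_left, Nat.mul_div_cancel_left _ two_pos]
    omega
  · rw [hk, Nat.gcd_comm, Nat.gcd_mul_left_add_right]
    simp
    omega

/-- A group with cyclic Sylow 2-subgroup has a linear character detecting order divisible by 4. -/
theorem exists_hom (P : Sylow 2 G) (hP : IsCyclic P) {z : G} (hz : 4 ∣ orderOf z) :
    ∃ f : G →* ℂˣ, f z ≠ 1 ∧ ∀ g, ¬ 4 ∣ orderOf g → f g = 1 := by
  have h1 := H8.hasNPC_iff_coprime_pResidual.mp (H8.hasNPC_two_of_isCyclic P hP)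
  have h2 : Function.Surjective 
      ((QuotientGroup.mk' (pResidual 2 G)).comp (P : Subgroup G).subtype) := by
    rw [← MonoidHom.range_eq_top, MonoidHom.range_comp, range_subtype, ← Subgroup.map_top_of_surjective _
      (QuotientGroup.mk'_surjective (pResidual 2 G)), ← H8.sylow_sup_pResidual P,
      Subgroup.map_sup, QuotientGroup.map_mk'_self, sup_bot_eq]
  have h3 : IsCyclic (G ⧸ pResidual 2 G) := isCyclic_of_surjective _ h2
  let _ : CommGroup (G ⧸ pResidual 2 G) := IsCyclic.commGroup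
  obtain ⟨φ, hφ⟩ := CommGroup.exists_apply_ne_one_of_hasEnoughRootsOfUnity
    (G ⧸ pResidual 2 G) ℂ (a := QuotientGroup.mk (z ^ 2)) (by
      rw [Ne, QuotientGroup.eq_one_iff]
      intro e
      have := h1.coprime_dvd_left (orderOf_dvd_card_of_mem e)
      rw [four_dvd_iff] at hz
      exact Nat.prime_two.coprime_iff_not_dvd.mp this.symm hz)
  refine ⟨(powMonoidHom 2).comp (φ.comp (QuotientGroup.mk' _)), ?_, fun g hg => ?_⟩
  · simpa using hφ
  · rw [four_dvd_iff] at hg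
    have : (QuotientGroup.mk (g ^ 2) : G ⧸ pResidual 2 G) = 1 := (QuotientGroup.eq_one_iff _).mpr
      (H8.mem_pResidual_of_coprime ((Nat.prime_two.coprime_iff_not_dvd.mpr hg).symm))
    simp only [MonoidHom.comp_apply, powMonoidHom_apply, QuotientGroup.mk'_apply, ← map_pow,
      ← QuotientGroup.mk_pow, this, map_one]

/-- A central element of order 4 and a unique involution force cyclic Sylow 2-subgroups. -/
theorem isCyclic_of_central (h : ∀ a b : G, orderOf a = 2 → orderOf b = 2 → a = b) {u : G}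
    (hu : orderOf u = 4) (hc : ∀ g, Commute g u) (P : Sylow 2 G) : IsCyclic P := by
  refine (H3.isCyclic_or_quaternion_of_unique_involution P.isPGroup' fun a b ha hb =>
    Subtype.ext (h a b (by rwa [orderOf_coe]) (by rwa [orderOf_coe]))).resolve_right ?_
  rintro ⟨k, hk, ⟨e⟩⟩
  obtain ⟨x, y, h1, h2, h3, h4, h5⟩ := H3.exists_gens_of_mulEquiv_quaternion e
  have h6 : (zpowers u).Normal := ⟨fun n hn g => by
    obtain ⟨i, rfl⟩ := hn
    rw [((hc g).zpow_right i).eq, mul_inv_cancel_right]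
    exact ⟨i, rfl⟩⟩
  have h7 : u ∈ (P : Subgroup G) := (H8.isPGroup_zpowers_of_orderOf (p := 2) (k := 2)
    hu).le_sylow_of_normal P (mem_zpowers u)
  have h8 : ∀ g : P, Commute g ⟨u, h7⟩ := fun g => Subtype.ext (hc g)
  have h9 : orderOf (⟨u, h7⟩ : P) = 4 := by rwa [← orderOf_coe]
  generalize (⟨u, h7⟩ : P) = w at h8 h9
  by_cases hw : w ∈ zpowers x
  · obtain ⟨i, rfl⟩ := mem_zpowers_iff.mp hw
    have h10 := H3.zpow_mul_of_conj_inv h5 i
    rw [← (h8 y).eq, mul_right_inj, zpow_neg] at h10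
    have : (x ^ i) ^ 2 = 1 := by rw [sq]; nth_rw 1 [h10]; rw [inv_mul_cancel]
    have := orderOf_dvd_of_pow_eq_one this
    simp only [h9] at this
    omega
  · obtain ⟨i, rfl⟩ := H3.exists_eq_zpow_mul_of_index_two h2 h3 hw
    have h10 : Commute x y := by
      simpa using ((Commute.refl x).zpow_right (-i)).mul_right (h8 x)
    rw [← h10.eq, mul_inv_cancel_right] at h5
    have : x ^ 2 = 1 := by rw [sq]; nth_rw 1 [h5]; rw [inv_mul_cancel]
    have := Nat.le_of_dvd two_pos (orderOf_dvd_of_pow_eq_one this)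
    have h11 : 2 ^ 1 ≤ 2 ^ k := Nat.pow_le_pow_right two_pos hk
    omega

omit [Finite G] in
theorem eq_or_eq_inv {u v : G} (hu : orderOf u = 4) (hv : orderOf v = 4) (hc : Commute u v)
    (h : ∀ s, orderOf s = 2 → Commute (u ^ 2) s → s = u ^ 2) : v = u ∨ v = u⁻¹ := by
  have h1 : v ^ 2 = u ^ 2 := h _ (by rw [orderOf_pow' _ two_ne_zero, hv]; rfl) (hc.pow_pow 2 2)
  by_cases e : v * u⁻¹ = 1
  · exact Or.inl (mul_inv_eq_one.mp e)
  have h2 := h (v * u⁻¹) (orderOf_eq_prime (by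
    rw [hc.symm.inv_right.mul_pow, h1, inv_pow, mul_inv_cancel]) e)
    ((hc.pow_left 2).mul_right ((Commute.refl u).pow_left 2).inv_right)
  refine Or.inr ?_
  rw [mul_inv_eq_iff_eq_mul.mp h2, eq_inv_iff_mul_eq_one, ← pow_succ, ← pow_succ]
  exact orderOf_dvd_iff_pow_eq_one.mp hu.dvd

omit [Finite G] in
theorem inv_conj {s u : G} (hs : s * u * s⁻¹ = u⁻¹) : s * u⁻¹ * s⁻¹ = u := by
  rw [← conj_inv, hs, inv_inv]

omit [Finite G] in
theorem inv_conj' {s u : G} (hs : s * u * s⁻¹ = u⁻¹) : s⁻¹ * u * s = u⁻¹ := by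
  nth_rw 1 [← inv_conj hs]; group

theorem orderOf_pow_div {a : G} (ha : 4 ∣ orderOf a) : orderOf (a ^ (orderOf a / 4)) = 4 :=
  orderOf_pow_orderOf_div (orderOf_pos a).ne' ha

theorem mem_or_mem {u s a g : G} (hu : orderOf u = 4) (hs : s * u * s⁻¹ = u⁻¹)
    (h : ∀ s, orderOf s = 2 → Commute (u ^ 2) s → s = u ^ 2) (ha : a ∈ 𝐂[u]) (h4 : 4 ∣ orderOf a)
    (hg : g⁻¹ * a * g ∈ 𝐂[u]) : g ∈ 𝐂[u] ∨ s⁻¹ * g ∈ 𝐂[u] := by
  have h1 := orderOf_pow_div h4
  have h2 := eq_or_eq_inv hu h1 (mem_centralizer_singleton_iff.mp (pow_mem ha _)).symm h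
  have h3 := eq_or_eq_inv hu (v := g⁻¹ * a ^ (orderOf a / 4) * g) (by
      rw [← MulAut.conj_inv_apply, MulEquiv.orderOf_eq, h1])
    (mem_centralizer_singleton_iff.mp (by
      simpa [← conj_pow] using (conj_pow (a := g⁻¹) ▸ pow_mem (by simpa using hg) (orderOf a / 4) :
        g⁻¹ * a ^ (orderOf a / 4) * g⁻¹⁻¹ ∈ 𝐂[u]))).symm h
  have h5 : g⁻¹ * u * g = u ∨ g⁻¹ * u * g = u⁻¹ := by
    rcases h2 with e | e <;> rw [e] at h3
    · exact h3
    · rcases h3 with e' | e'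
      · right; nth_rw 2 [← e']; group
      · left; rw [← inv_inj, ← e']; group
  simp only [mem_centralizer_singleton_iff]
  refine h5.imp (fun e => ?_) fun e => ?_
  · nth_rw 1 [← e]; group
  · have h7 : g * u * g⁻¹ = u⁻¹ := by simpa using inv_conj' (s := g⁻¹) (by simpa using e)
    calc s⁻¹ * g * u = s⁻¹ * (g * u * g⁻¹) * g := by group
      _ = s⁻¹ * (s * u * s⁻¹) * g := by rw [h7, hs]
      _ = u * (s⁻¹ * g) := by group

theorem ind_apply {u s a : G} (hu : orderOf u = 4) (hs : s * u * s⁻¹ = u⁻¹)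
    (h : ∀ s, orderOf s = 2 → Commute (u ^ 2) s → s = u ^ 2) {α : G → ℂ} (hα : α ∈ CF 𝐂[u])
    (ha : a ∈ 𝐂[u]) (h4 : 4 ∣ orderOf a) :
    ind ⊤ 𝐂[u] α a = α a + α (s⁻¹ * a * s) := by
  have hsC : s ∉ 𝐂[u] := fun e => by
    rw [mem_centralizer_singleton_iff.mp e, mul_inv_cancel_right] at hs
    have : u ^ 2 = 1 := by rw [sq]; nth_rw 1 [hs]; rw [inv_mul_cancel]
    have := orderOf_dvd_of_pow_eq_one this
    rw [hu] at this
    omega
  rw [ind_of_mem _ _ (mem_top a), res_of_mem_CF hα,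
    sum_fs_diff (A := (𝐂[u] : Subgroup G)) fun _ _ => mem_top _,
    ← sum_fs_subset (A := (s * ·) '' (𝐂[u] : Subgroup G)) (B := _ \ _) (by
      rintro _ ⟨c, hc, rfl⟩
      exact ⟨mem_top _, fun e => hsC ((mul_mem_cancel_right hc).mp e)⟩) (fun g hg hg' => by
      by_contra e
      rcases mem_or_mem hu hs h ha h4 (by_contra fun e' => e (CF_off hα e')) with e' | e'
      · exact hg.2 e'
      · exact hg' ⟨_, e', mul_inv_cancel_left s g⟩),
    ← sum_fs_bij (s * ·) (mul_right_injective s).injOn.bijOn_image,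
    sum_fs_congr fun c hc => CF_conj' hα hc a, sum_fs_const,
    sum_fs_congr (g := fun _ => α (s⁻¹ * a * s)) fun c hc => by
      rw [← CF_conj' hα hc (s⁻¹ * a * s)]; congr 1; group,
    sum_fs_const, nsmul_eq_mul, nsmul_eq_mul, ← mul_add,
    inv_mul_cancel_left₀ (card_ne_zero_C _)]

/-- The case `|S| ≥ 16` of the Brauer-Suzuki theorem. -/
theorem big (ht : orderOf t = 2) (h : ∀ s, orderOf s = 2 → Commute t s → s = t) {x s : G}
    (hx : 8 ∣ orderOf x) (hs : s * x * s⁻¹ = x⁻¹) (htx : Commute t x) :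
    ∃ N : Subgroup G, N.Normal ∧ N ≠ ⊤ ∧ t ∈ N := by
  have h4 : 4 ∣ orderOf x := dvd_trans (by decide) hx
  obtain ⟨u, hux⟩ : ∃ u, u = x ^ (orderOf x / 4) := ⟨_, rfl⟩
  have hu : orderOf u = 4 := hux ▸ orderOf_pow_div h4
  obtain rfl : u ^ 2 = t := h _ (by rw [orderOf_pow' _ two_ne_zero, hu]; rfl)
    (hux ▸ (htx.pow_right _).pow_right 2)
  have hsu : s * u * s⁻¹ = u⁻¹ := by rw [hux, ← conj_pow, hs, inv_pow]
  have hxC : x ∈ 𝐂[u] := mem_centralizer_singleton_iff.mpr (hux ▸ (Commute.refl x).pow_right _)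
  have hsN : s ∈ 𝐍(𝐂[u]) := mem_normalizer_fintype fun c hc => by
    rw [SetLike.mem_coe, mem_centralizer_singleton_iff] at hc ⊢
    rw [← inv_conj hsu, conj_mul, conj_mul, (show Commute c u from hc).inv_right.eq]
  obtain ⟨P⟩ : Nonempty (Sylow 2 𝐂[u]) := inferInstance
  have hinv : ∀ a : 𝐂[u], orderOf a = 2 → (a : G) = u ^ 2 := fun a ha =>
    h a (by rwa [orderOf_coe]) ((show Commute (a : G) u from
      mem_centralizer_singleton_iff.mp a.2).symm.pow_left 2)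
  obtain ⟨f, hf1, hf2⟩ := exists_hom P (isCyclic_of_central
    (fun a b ha hb => Subtype.ext ((hinv a ha).trans (hinv b hb).symm))
    (u := ⟨u, mem_centralizer_singleton_iff.mpr rfl⟩) (by rwa [orderOf_mk])
    (fun g => Subtype.ext (mem_centralizer_singleton_iff.mp g.2)) P) (z := ⟨x, hxC⟩ ^ 2) (by
      rw [orderOf_pow, orderOf_mk, Nat.gcd_eq_right (dvd_trans (by decide) hx)]
      omega)
  obtain ⟨l, hl, hl1, hl2⟩ : ∃ l : G → ℂ, IsLin 𝐂[u] l ∧ l (x ^ 2) ≠ 1 ∧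
      ∀ g ∈ 𝐂[u], ¬ 4 ∣ orderOf g → l g = 1 := by
    refine ⟨_, isLin_extendByZero f, ?_, fun g hg hg' => ?_⟩
    · rw [H6.extendByZero_of_mem _ _ (pow_mem hxC 2)]
      exact fun e => hf1 (Units.ext e)
    · rw [H6.extendByZero_of_mem _ _ hg, hf2 _ (by rwa [orderOf_mk]), Units.val_one]
  have hα : cf1 𝐂[u] - l ∈ VChar 𝐂[u] := sub_mem (cf1_mem_VChar _) hl.isChar.mem_VChar
  have h0 : ∀ g, ¬ 4 ∣ orderOf g → (cf1 𝐂[u] - l) g = 0 := fun g hg => by
    by_cases e : g ∈ 𝐂[u]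
    · rw [Pi.sub_apply, cf1_of_mem e, hl2 g e hg, sub_self]
    · exact CF_off (vchar_mem_CF hα) e
  have h1 : ∀ g, ¬ 4 ∣ orderOf g → ind ⊤ 𝐂[u] (cf1 𝐂[u] - l) g = 0 := fun g hg =>
    ind_apply_eq_zero fun y _ _ => h0 _ (by rwa [← MulAut.conj_inv_apply, MulEquiv.orderOf_eq])
  have hl' := hl.cfConj_of_norm hsN
  have h5 : cfConj s l x = l x⁻¹ := by
    rw [cfConj_apply, inv_conj' hs]
  have h6 := hl.mul_inv hxC
  rw [hl.pow_apply hxC] at hl1
  have n1 : cf1 𝐂[u] ≠ l := fun e => hl1 (by rw [← e, cf1_of_mem hxC, one_pow])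
  have n2 : cf1 𝐂[u] ≠ cfConj s l := fun e => hl1 (by
    rw [← h5, ← e, cf1_of_mem hxC, mul_one] at h6; rw [h6, one_pow])
  have n3 : l ≠ cfConj s l := fun e => hl1 (by rwa [← h5, ← e, ← sq] at h6)
  have i1 := cf1_mem_Irr (𝐂[u] : Subgroup G)
  refine of_norm_three ht h (vchar_ind le_top hα) (nsq_eq_of_ip ?_) ?_
    (fun g hg => h1 g fun e => ?_) (h1 _ (by rw [ht]; decide))
  · rw [ip_ind_left le_top _ (ind_mem_CF _ _ _), ip_congr_of_supp
      (A := {g | g ∈ 𝐂[u] ∧ 4 ∣ orderOf g}) (fun g hg hg' => h0 g fun e => hg' ⟨hg, e⟩)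
      (ψ' := cf1 𝐂[u] - l + (cf1 𝐂[u] - cfConj s l)) fun a ha => by
        rw [ind_apply hu hsu h (vchar_mem_CF hα) ha.1 ha.2, 
          ← cfConj_apply s (cf1 𝐂[u] - l) a, map_sub,
          cfConj_cf1_of_norm hsN, Pi.add_apply]]
    simp only [ip_sub_left, ip_sub_right, ip_add_right, ip_irr_self i1, ip_irr_self hl.mem_Irr,
      ip_irr_of_ne i1 hl.mem_Irr n1, ip_irr_of_ne hl.mem_Irr i1 n1.symm,
      ip_irr_of_ne i1 hl'.mem_Irr n2, ip_irr_of_ne hl.mem_Irr hl'.mem_Irr n3]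
    norm_num
  · rw [ip_ind_left le_top _ (cf1_mem_CF _), ← ip_res_right, res_cf1 le_top, ip_sub_left,
      ip_irr_self i1, ip_irr_of_ne hl.mem_Irr i1 n1.symm, sub_zero]
  · exact Nat.not_even_iff_odd.mpr hg (even_iff_two_dvd.mpr (dvd_trans (by decide) e))

end Cfsg.Agent.P1.BS
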