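/-
Brauer-Suzuki for quaternion Sylow subgroups of order 8: the principal block of `C(t)`.
-/
import Cfsg.Agent.P1.B_0

set_option autoImplicit false
set_option linter.unusedSectionVars false

namespace Cfsg.Agent.P1.BS

open Subgroup Cfsg Cfsg.Agent Cfsg.Agent.FT
open scoped ComplexConjugate commutatorElement

universe u

variable {G : Type u} [Group G]

structure Q8 (t u : G) (L Q : Subgroup G) : Prop where
  ht : orderOf t = 2
  uniq : ∀ s, orderOf s = 2 → Commute t s → s = t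
  sq : u * u = t
  normal : L ⊲ 𝐂[u]
  odd : (𝐨(L)).Coprime 2
  idx : L.relIndex 𝐂[u] = 2 ^ 2
  fus : ∀ x k, orderOf x = 2 ^ k → x * x ≠ 1 → ∃ g, g * u * g⁻¹ = x
  syl : IsSyl 2 Q 𝐂[t]
  card : 𝐨(Q) = 8

noncomputable def ee (u : G) (L : Subgroup G) : G → ℂ := {x | u⁻¹ * x ∈ L}.indicator fun _ => 4

noncomputable def eta [Finite G] (u : G) (L K : Subgroup G) : G → ℂ := ind K 𝐂[u] (ee u L)

/-- The inner product over the elements of odd order. -/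
noncomputable def op [Finite G] (H : Subgroup G) (φ ψ : G → ℂ) : ℂ :=
  ∑ x ∈ fs (regSet 2 H), φ x * conj (ψ x)

open Classical in
noncomputable def Bp [Finite G] (t : G) : Finset (G → ℂ) :=
  (B0 2 𝐂[t]).filter fun φ => ∀ x, φ (t * x) = φ x

open Classical in
noncomputable def Bm [Finite G] (t : G) : Finset (G → ℂ) :=
  (B0 2 𝐂[t]).filter fun φ => ¬ ∀ x, φ (t * x) = φ x

theorem four_sq {ι : Type*} {s : Finset ι} (hs : s.card = 4) {o : ι} (ho : o ∈ s) {m : ι → ℤ}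
    (h1 : ∑ i ∈ s, m i = 0) (h2 : ∑ i ∈ s, m i ^ 2 = 16) : (m o = 2 ∨ m o = -2) ∧
      ∃ j ∈ s, j ≠ o ∧ m j = m o ∧ ∀ i ∈ s, i ≠ o ∧ i ≠ j → m i = -m o := by
  classical
  obtain ⟨a, b, c, hab, hac, hbc, e⟩ := Finset.card_eq_three.mp
    ((Finset.card_erase_of_mem ho).trans (by rw [hs]))
  have h3 : ∀ i, i ∈ s ∧ i ≠ o ↔ i = a ∨ i = b ∨ i = c := fun i => by
    rw [and_comm, ← Finset.mem_erase, e]; simp
  rw [← Finset.add_sum_erase _ _ ho, e, Finset.sum_insert (by simp [hab, hac]),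
    Finset.sum_pair hbc] at h1 h2
  have ha := (h3 a).mpr (.inl rfl)
  have hb := (h3 b).mpr (.inr (.inl rfl))
  have hc := (h3 c).mpr (.inr (.inr rfl))
  have h4 : (m o = 2 ∨ m o = -2) ∧ (m a = m o ∧ m b = -m o ∧ m c = -m o ∨
      m a = -m o ∧ m b = m o ∧ m c = -m o ∨ m a = -m o ∧ m b = -m o ∧ m c = m o) := by
    generalize m o = w, m a = x, m b = y, m c = z at h1 h2
    obtain rfl : w = -(x + (y + z)) := eq_neg_of_add_eq_zero_left h1
    have hx : -4 ≤ x ∧ x ≤ 4 := by constructor <;> nlinarith [sq_nonneg y, sq_nonneg z]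
    have hy : -4 ≤ y ∧ y ≤ 4 := by constructor <;> nlinarith [sq_nonneg x, sq_nonneg z]
    have hz : -4 ≤ z ∧ z ≤ 4 := by constructor <;> nlinarith [sq_nonneg x, sq_nonneg y]
    obtain ⟨⟨_, _⟩, ⟨_, _⟩, _, _⟩ := And.intro hx (And.intro hy hz)
    revert h2
    interval_cases x <;> interval_cases y <;> interval_cases z <;> decide
  refine ⟨h4.1, ?_⟩
  rcases h4.2 with h | h | h
  · exact ⟨a, ha.1, ha.2, h.1, fun i hi h' => by
      rcases (h3 i).mp ⟨hi, h'.1⟩ with rfl | rfl | rfl <;> simp_all⟩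
  · exact ⟨b, hb.1, hb.2, h.2.1, fun i hi h' => by
      rcases (h3 i).mp ⟨hi, h'.1⟩ with rfl | rfl | rfl <;> simp_all⟩
  · exact ⟨c, hc.1, hc.2, h.2.2, fun i hi h' => by
      rcases (h3 i).mp ⟨hi, h'.1⟩ with rfl | rfl | rfl <;> simp_all⟩

variable [Finite G] {t u : G} {L Q : Subgroup G}

theorem mem_Bp {φ : G → ℂ} : φ ∈ Bp t ↔ φ ∈ B0 2 𝐂[t] ∧ ∀ x, φ (t * x) = φ x := by
  classical exact Finset.mem_filter

theorem sum_B0_eq {M : Type*} [AddCommMonoid M] (F : (G → ℂ) → M) :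
    ∑ φ ∈ B0 2 𝐂[t], F φ = ∑ φ ∈ Bp t, F φ + ∑ φ ∈ Bm t, F φ := by
  classical exact (Finset.sum_filter_add_sum_filter_not _ _ _).symm

theorem self_mem : t ∈ 𝐂[t] := mem_centralizer_singleton_iff.mpr rfl

theorem cf1_mem_Bp : cf1 𝐂[t] ∈ Bp t :=
  mem_Bp.mpr ⟨cf1_mem_B0 _ _, le_cfKer_cf1 _ self_mem⟩

namespace Q8

variable (h : Q8 t u L Q)
include h

theorem tt : t * t = 1 := mul_self h.ht

theorem u4 : u ^ 2 ^ 2 = 1 := by
  rw [← h.tt, ← h.sq, ← pow_two, ← pow_two, ← pow_mul]; rfl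

theorem C_le : 𝐂[u] ≤ 𝐂[t] := fun x hx => mem_centralizer_singleton_iff.mpr
  (h.sq ▸ (Commute.mul_right (mem_centralizer_singleton_iff.mp hx)
    (mem_centralizer_singleton_iff.mp hx) : Commute x (u * u)))

theorem u_mem : u ∈ 𝐂[t] := h.C_le self_mem

theorem mem_H {g : G} (hc : Commute t (g * t * g⁻¹)) : g ∈ 𝐂[t] :=
  mem_centralizer_singleton_iff.mpr (mul_inv_eq_iff_eq_mul.mp
    (h.uniq _ (by rw [← MulAut.conj_apply, MulEquiv.orderOf_eq, h.ht]) hc))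

theorem exists_conj {x : G} {k : ℕ} (hx : x ∈ 𝐂[t]) (h1 : orderOf x = 2 ^ k) (h2 : x * x ≠ 1) :
    ∃ g ∈ 𝐂[t], g * u * g⁻¹ = x := by
  obtain ⟨g, rfl⟩ := h.fus x k h1 h2
  have h3 : Commute t (g * u * g⁻¹) := (mem_centralizer_singleton_iff.mp hx).symm
  exact ⟨g, h.mem_H (by simpa only [conj_mul, h.sq] using h3.mul_right h3), rfl⟩

theorem t_ne : t ≠ 1 := fun e => by simpa [e] using h.ht

theorem order_u : orderOf u = 2 ^ 2 :=
  orderOf_eq_prime_pow (by rw [pow_one, pow_two, h.sq]; exact h.t_ne) h.u4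

theorem apply_tu {φ : G → ℂ} (hφ : φ ∈ CF 𝐂[t]) : φ (t * u) = φ u := by
  have h1 : t * u = u⁻¹ := by
    rw [eq_inv_iff_mul_eq_one, mul_assoc, h.sq, h.tt]
  obtain ⟨g, hg, e⟩ := h.exists_conj (mul_mem self_mem h.u_mem) (k := 2)
    (by rw [h1, orderOf_inv, h.order_u])
    (by rw [h1, ← mul_inv_rev, h.sq, Ne, inv_eq_one]; exact h.t_ne)
  rw [← e, CF_conj hφ hg]

theorem tri {x : G} (hx : x ∈ 𝐂[t]) : x ∈ regSet 2 𝐂[t] ∨ t * x ∈ regSet 2 𝐂[t] ∨
    ∃ g ∈ 𝐂[t], ∃ y ∈ L, x = g * (u * y) * g⁻¹ := by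
  obtain ⟨a, b, ha, hb, rfl, hab, ⟨k, h1⟩, h2⟩ := H8.exists_pPart_pPrimePart Nat.prime_two x
  replace ha := zpowers_le.mpr hx ha
  replace hb := zpowers_le.mpr hx hb
  by_cases h3 : a * a = 1
  · by_cases h4 : a = 1
    · exact .inl (by rw [h4, one_mul]; exact ⟨hb, h2⟩)
    · rw [h.uniq a (orderOf_eq_prime (by rw [pow_two, h3]) h4)
        (mem_centralizer_singleton_iff.mp ha).symm, ← mul_assoc, h.tt, one_mul]
      exact .inr (.inl ⟨hb, h2⟩)
  obtain ⟨g, hg, rfl⟩ := h.exists_conj ha h1 h3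
  refine .inr (.inr ⟨g, hg, g⁻¹ * b * g, ?_, by group⟩)
  rw [← SetLike.mem_coe, ← regSet_eq_of_normal h.normal h.odd h.idx]
  refine ⟨mem_centralizer_singleton_iff.mpr ?_, ?_⟩
  · simpa [mul_assoc] using congrArg (fun z => g⁻¹ * z * g) hab.eq.symm
  · rwa [← MulAut.conj_inv_apply, MulEquiv.orderOf_eq]

theorem two_dvd {x : G} (hx : x ∈ regSet 2 𝐂[t]) : 2 ∣ orderOf (t * x) := by
  have h1 : Commute (t * x) x⁻¹ := ((Commute.mul_left
    (mem_centralizer_singleton_iff.mp hx.1).symm (Commute.refl x))).inv_right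
  have h2 := h1.orderOf_mul_dvd_mul_orderOf
  rw [mul_inv_cancel_right, h.ht, orderOf_inv] at h2
  exact hx.2.symm.dvd_of_dvd_mul_right h2

theorem not_reg {x : G} (hx : x ∈ regSet 2 𝐂[t]) : t * x ∉ regSet 2 𝐂[t] := fun e =>
  absurd (Nat.eq_one_of_dvd_coprimes e.2 (h.two_dvd hx) dvd_rfl) (by decide)

theorem pow_eq {y : G} (hy : y ∈ L) : (u * y) ^ 𝐨(L) ^ 2 = u := by
  obtain ⟨m, hm⟩ := Nat.coprime_two_right.mp h.odd
  rw [Commute.mul_pow (mem_centralizer_singleton_iff.mp (h.normal.1 hy)).symm,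
    orderOf_dvd_iff_pow_eq_one.mp ((orderOf_dvd_natCard L hy).trans (dvd_pow_self _ two_ne_zero)),
    mul_one, hm, show (2 * m + 1) ^ 2 = 2 ^ 2 * (m ^ 2 + m) + 1 by ring, pow_succ, pow_mul, h.u4,
    one_pow, one_mul]

theorem conj_mem_iff {g : G} (hg : g ∈ 𝐂[u]) (x : G) : u⁻¹ * (g * x * g⁻¹) ∈ L ↔ u⁻¹ * x ∈ L := by
  rw [mem_normalizer_iff.mp (h.normal.2 hg) (u⁻¹ * x), ← mul_assoc g,
    (Commute.inv_right (mem_centralizer_singleton_iff.mp hg)).eq]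
  simp only [mul_assoc]

theorem ti {K : Subgroup G} (hK : 𝐂[u] ≤ K) : NormedTI {x | u⁻¹ * x ∈ L} K 𝐂[u] where
  nonempty := ⟨u, by simp⟩
  one_notMem e := by
    have := h.pow_eq e
    rw [mul_one, mul_inv_cancel, one_pow] at this
    simpa [← this] using h.order_u
  subset x hx := by simpa using mul_mem self_mem (h.normal.1 hx)
  le := hK
  norm g hg a ha := (h.conj_mem_iff hg a).mpr ha
  ti g _ a ha hg := by
    have h1 := h.pow_eq ha
    have h2 := h.pow_eq hg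
    rw [mul_inv_cancel_left] at h1 h2
    rw [conj_pow, h1] at h2
    exact mem_centralizer_singleton_iff.mpr (mul_inv_eq_iff_eq_mul.mp h2)

theorem ee_mem : ee u L ∈ CFon 𝐂[u] {x | u⁻¹ * x ∈ L} :=
  ⟨⟨fun _ hx => Set.indicator_of_notMem (fun e => hx ((h.ti le_rfl).subset e)) _, fun g hg x => by
    classical simp only [ee, Set.indicator_apply, Set.mem_ofPred_eq, h.conj_mem_iff hg]⟩,
    fun _ hx => Set.indicator_of_notMem hx _⟩

theorem ip_ee (φ : G → ℂ) :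
    ip 𝐂[u] φ (ee u L) = (𝐨(L) : ℂ)⁻¹ * ∑ y ∈ fs (L : Set G), φ (u * y) := by
  rw [ip_def, ← sum_fs_mul_left self_mem, ← sum_fs_subset (A := (L : Set G)) h.normal.1
    fun x _ hx => by rw [ee, Set.indicator_of_notMem (by simpa using hx), map_zero, mul_zero],
    sum_fs_congr (g := fun y => φ (u * y) * 4) fun x hx => by
      rw [ee, Set.indicator_of_mem (by simpa using hx), map_ofNat],
    ← Finset.sum_mul, ← H1.card_mul_relIndex h.normal.1, h.idx]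
  push_cast
  field_simp [card_ne_zero_C L]

open Classical in
theorem ip_eta {K : Subgroup G} (hK : 𝐂[u] ≤ K) {χ : G → ℂ} (hχ : χ ∈ Irr K) :
    ip K χ (eta u L K) = if χ ∈ B0 2 K then χ u else 0 := by
  have h1 := B0_second Nat.prime_two (hK self_mem) h.u4 (one_mem_regSet _ _) hχ
  rw [inf_eq_right.mpr hK, B0_eq_irrKer Nat.prime_two h.normal h.odd h.idx, mul_one, irrKer,
    Finset.sum_filter] at h1
  rw [← h1, eta, ip_ind_right hK (irr_mem_CF hχ), ← ip_res_left,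
    ip_eq_sum_irr (res_mem_CF hK (irr_mem_CF hχ))]
  refine Finset.sum_congr rfl fun φ hφ => ?_
  rw [conj_ip, h.ip_ee, ip_res_left,
    sum_fs_congr fun y _ => CF_mul_comm (irr_mem_CF hφ) self_mem y, sum_coset h.normal hφ]
  split_ifs
  · rw [inv_mul_cancel_left₀ (card_ne_zero_C L)]
  · simp

theorem eta_sec {g y : G} (hg : g ∈ 𝐂[t]) (hy : y ∈ L) : eta u L 𝐂[t] (g * (u * y) * g⁻¹) = 4 := by
  rw [eta, CF_conj (ind_mem_CF _ _ _) hg, (h.ti h.C_le).ind_apply h.ee_mem (by simpa using hy), ee,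
    Set.indicator_of_mem (by simpa using hy)]

theorem ip_eta_self {K : Subgroup G} (hK : 𝐂[u] ≤ K) : ip K (eta u L K) (eta u L K) = 4 := by
  rw [eta, (h.ti hK).ip_ind h.ee_mem h.ee_mem, h.ip_ee, sum_fs_congr (g := fun _ => 4) fun x hx => by
    rw [ee, Set.indicator_of_mem (by simpa using hx)], sum_fs_const, nsmul_eq_mul,
    inv_mul_cancel_left₀ (card_ne_zero_C L)]

theorem int {φ : G → ℂ} (hφ : φ ∈ Irr 𝐂[t]) : ∃ n : ℤ, φ u = n := by
  refine int_of_aut_fixed ((irr_isChar hφ).isIntegral u) fun σ => ?_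
  obtain ⟨k, -, h1, h2⟩ := exists_pow_of_aut σ (n := 2 ^ 2) (by norm_num)
  rw [vchar_aut_apply (irr_mem_VChar hφ) (by norm_num) h2 h.u_mem h.u4]
  obtain ⟨m, rfl⟩ := Nat.coprime_two_right.mp (h1.coprime_dvd_right (by norm_num))
  rw [pow_succ, pow_mul, pow_two, h.sq]
  obtain ⟨n, rfl | rfl⟩ := Nat.even_or_odd' m
  · rw [pow_mul, pow_two, h.tt, one_pow, one_mul]
  · rw [pow_succ, pow_mul, pow_two, h.tt, one_pow, one_mul, h.apply_tu (irr_mem_CF hφ)]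

theorem real {φ : G → ℂ} (hφ : φ ∈ Irr 𝐂[t]) : conj (φ u) = φ u := by
  obtain ⟨n, hn⟩ := h.int hφ
  rw [hn, map_intCast]

theorem mem_Bm {φ : G → ℂ} : φ ∈ Bm t ↔ φ ∈ B0 2 𝐂[t] ∧ ∀ x, φ (t * x) = -φ x := by
  classical
  refine Finset.mem_filter.trans (and_congr_right fun h0 => ⟨fun e => ?_, fun e e' => ?_⟩)
  · have hφ := B0_subset _ _ h0
    have h1 := fun y => sum_conj_mul hφ self_mem y
    simp only [fun y => sum_fs_congr (g := fun _ => φ (t * y)) (f := fun a => φ (a * t * a⁻¹ * y))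
      fun a (ha : a ∈ 𝐂[t]) => by rw [mem_centralizer_singleton_iff.mp ha, mul_inv_cancel_right],
      sum_fs_const, nsmul_eq_mul, mul_left_comm (φ 1), mul_right_inj' (card_ne_zero_C _)] at h1
    have h2 := h1 t
    rw [h.tt, mul_self_eq_mul_self_iff] at h2
    rcases h2 with h2 | h2
    · exact absurd (fun x => mul_left_cancel₀ (irr_one_ne_zero hφ) (by rw [h1, h2])) e
    · exact fun x => mul_left_cancel₀ (irr_one_ne_zero hφ) (by rw [h1, h2, neg_mul_neg])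
  · exact irr_one_ne_zero (B0_subset _ _ h0) (self_eq_neg.mp ((e' 1).symm.trans (e 1)))

theorem Bm_u {φ : G → ℂ} (hφ : φ ∈ Bm t) : φ u = 0 := self_eq_neg.mp
  ((h.apply_tu (irr_mem_CF (B0_subset _ _ (h.mem_Bm.mp hφ).1))).symm.trans ((h.mem_Bm.mp hφ).2 u))

theorem eta_apply (x : G) : eta u L 𝐂[t] x = ∑ φ ∈ Bp t, φ u * φ x := by
  classical
  rw [apply_eq_sum_irr (φ := eta u L 𝐂[t]) (ind_mem_CF _ _ _), Finset.sum_congr rfl fun φ hφ => by
    rw [← conj_ip, h.ip_eta h.C_le hφ, apply_ite conj, h.real hφ, map_zero, ite_mul, zero_mul],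
    Finset.sum_ite_mem, Finset.inter_eq_right.mpr (B0_subset _ _), sum_B0_eq,
    Finset.sum_eq_zero (s := Bm t) fun φ hφ => by rw [h.Bm_u hφ, zero_mul], add_zero]

theorem eta_mem : eta u L 𝐂[t] ∈ VChar 𝐂[t] := mem_VChar_iff.mpr ⟨ind_mem_CF _ _ _, fun φ hφ => by
  obtain ⟨n, hn⟩ := h.int hφ
  rw [← conj_ip, h.ip_eta h.C_le hφ]
  split_ifs
  exacts [⟨n, by rw [hn, map_intCast]⟩, ⟨0, by simp⟩]⟩

theorem eta_reg {x : G} (hx : x ∈ regSet 2 𝐂[t]) : eta u L 𝐂[t] x = 0 := by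
  rw [h.eta_apply, ← sum_B0_reg_sing Nat.prime_two 𝐂[t] hx.2 (g := u) (h.order_u ▸ by norm_num),
    sum_B0_eq, Finset.sum_eq_zero (s := Bm t) fun φ hφ => by rw [h.Bm_u hφ, map_zero, mul_zero],
    add_zero]
  exact Finset.sum_congr rfl fun φ hφ => by rw [h.real (B0_subset _ _ (mem_Bp.mp hφ).1), mul_comm]

theorem eta_t (x : G) : eta u L 𝐂[t] (t * x) = eta u L 𝐂[t] x := by
  rw [h.eta_apply, h.eta_apply]
  exact Finset.sum_congr rfl fun φ hφ => by rw [(mem_Bp.mp hφ).2]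

theorem const {φ : G → ℂ} (hφ : φ ∈ B0 2 𝐂[t]) {g y : G} (hg : g ∈ 𝐂[t]) (hy : y ∈ L) :
    φ (g * (u * y) * g⁻¹) = φ u := by
  have := B0_apply_mul Nat.prime_two h.u_mem h.u4 (one_mem_regSet _ _)
    (by rw [inf_eq_right.mpr h.C_le]; exact h.normal) h.odd hy hφ
  rw [CF_conj (irr_mem_CF (B0_subset _ _ hφ)) hg, ← mul_one u, this]

theorem sum_eq {F : G → ℂ} (hF : ∀ g ∈ 𝐂[t], ∀ y ∈ L, F (g * (u * y) * g⁻¹) = F u) :
    ∑ x ∈ fs (𝐂[t] : Set G), F x = ∑ x ∈ fs (regSet 2 𝐂[t]), F x +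
      ∑ x ∈ fs (regSet 2 𝐂[t]), F (t * x) + 𝐨(𝐂[t]) / 4 * F u := by
  have h1 : ∀ f : G → ℂ, ∑ x ∈ fs (regSet 2 𝐂[t]), f x =
      ∑ x ∈ fs (𝐂[t] : Set G), (regSet 2 𝐂[t]).indicator f x := fun f => by
    rw [← sum_fs_subset (regSet_subset _ _) fun x _ hx => Set.indicator_of_notMem hx _]
    exact sum_fs_congr fun x hx => (Set.indicator_of_mem hx _).symm
  have h2 := congrArg conj (h.ip_eta h.C_le (cf1_mem_Irr _))
  rw [conj_ip, if_pos (cf1_mem_B0 _ _), cf1_of_mem h.u_mem, map_one, ip_cf1_right,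
    inv_mul_eq_one₀ (card_ne_zero_C _)] at h2
  rw [h1, h1 fun x => F (t * x), ← sum_fs_mul_left self_mem (Set.indicator _ fun x => F (t * x)),
    h2, Finset.sum_div, Finset.sum_mul, ← Finset.sum_add_distrib, ← Finset.sum_add_distrib]
  refine sum_fs_congr fun x hx => ?_
  rcases h.tri hx with e | e | ⟨g, hg, y, hy, e⟩
  · rw [Set.indicator_of_mem e, Set.indicator_of_notMem (h.not_reg e), h.eta_reg e]
    simp
  · rw [Set.indicator_of_mem e, Set.indicator_of_notMem (fun e' => h.not_reg e' e), ← h.eta_t,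
      h.eta_reg e, ← mul_assoc, h.tt]
    simp
  · have h3 := e ▸ h.eta_sec hg hy
    rw [Set.indicator_of_notMem fun e' => by simp [h.eta_reg e'] at h3,
      Set.indicator_of_notMem fun e' => by rw [← h.eta_t, h.eta_reg e'] at h3; simp at h3, h3, e,
      hF g hg y hy]
    simp

open Classical in
theorem orth {φ ψ : G → ℂ} (hφ : φ ∈ B0 2 𝐂[t]) (hψ : ψ ∈ B0 2 𝐂[t])
    (e : ∀ x, φ (t * x) * conj (ψ (t * x)) = φ x * conj (ψ x)) :
    2 * op 𝐂[t] φ ψ = 𝐨(𝐂[t]) * ((if φ = ψ then 1 else 0) - φ u * ψ u / 4) := by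
  have h1 := h.sum_eq (F := fun x => φ x * conj (ψ x)) fun g hg y hy => by
    rw [h.const hφ hg hy, h.const hψ hg hy]
  simp only [e, h.real (B0_subset _ _ hψ)] at h1
  rw [← ip_irr (B0_subset _ _ hφ) (B0_subset _ _ hψ), ip_def, h1, op, mul_sub,
    mul_inv_cancel_left₀ (card_ne_zero_C _)]
  ring

open Classical in
theorem orth_m {φ ψ : G → ℂ} (hφ : φ ∈ Bm t) (hψ : ψ ∈ Bm t) :
    2 * op 𝐂[t] φ ψ = if φ = ψ then (𝐨(𝐂[t]) : ℂ) else 0 := by
  rw [h.orth (h.mem_Bm.mp hφ).1 (h.mem_Bm.mp hψ).1 fun x => by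
    rw [(h.mem_Bm.mp hφ).2, (h.mem_Bm.mp hψ).2, map_neg, neg_mul_neg], h.Bm_u hφ]
  simp

theorem gram {x y : G} (hx : x ∈ regSet 2 𝐂[t]) (hy : y ∈ regSet 2 𝐂[t]) :
    ∑ φ ∈ Bp t, φ x * conj (φ y) = ∑ φ ∈ Bm t, φ x * conj (φ y) := by
  have h1 := sum_B0_reg_sing Nat.prime_two 𝐂[t] hx.2 (h.two_dvd hy)
  rw [sum_B0_eq, Finset.sum_congr rfl fun φ hφ => by rw [(mem_Bp.mp hφ).2],
    Finset.sum_congr (s₁ := Bm t) rfl fun φ hφ => by rw [(h.mem_Bm.mp hφ).2, map_neg, mul_neg],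
    Finset.sum_neg_distrib] at h1
  exact add_neg_eq_zero.mp h1

theorem expand {μ : G → ℂ} (hμ : μ ∈ Bm t) {x : G} (hx : x ∈ regSet 2 𝐂[t]) :
    𝐨(𝐂[t]) * μ x = 2 * ∑ φ ∈ Bp t, op 𝐂[t] μ φ * φ x := by
  classical
  have h1 : ∀ B : Finset (G → ℂ), ∑ φ ∈ B, op 𝐂[t] μ φ * φ x =
      ∑ y ∈ fs (regSet 2 𝐂[t]), μ y * ∑ φ ∈ B, φ x * conj (φ y) := fun B => by
    simp only [op, Finset.sum_mul, Finset.mul_sum]
    exact Finset.sum_comm.trans (sum_fs_congr fun y _ => Finset.sum_congr rfl fun φ _ => by ring)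
  rw [h1, sum_fs_congr fun y hy => by rw [h.gram hx hy], ← h1, Finset.mul_sum,
    Finset.sum_congr rfl fun φ hφ => by rw [← mul_assoc, h.orth_m hμ hφ, ite_mul, zero_mul],
    Finset.sum_ite_eq, if_pos hμ]

theorem Bp_spec : (Bp t).card = 4 ∧ ∀ φ ∈ Bp t, φ u = 1 ∨ φ u = -1 := by
  classical
  choose! n hn using fun φ (hφ : φ ∈ Bp t) => h.int (B0_subset _ _ (mem_Bp.mp hφ).1)
  have h1 := h.eta_sec (one_mem _) (one_mem L)
  rw [one_mul, inv_one, mul_one, mul_one, h.eta_apply,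
    Finset.sum_congr rfl fun φ hφ => by rw [hn φ hφ, ← pow_two]] at h1
  norm_cast at h1
  have h2 : n (cf1 𝐂[t]) = 1 := by
    exact_mod_cast (hn _ cf1_mem_Bp).symm.trans (cf1_of_mem h.u_mem)
  have h3 : ∀ φ ∈ Bp t, n φ ^ 2 = 1 := fun φ hφ => by
    by_cases e : φ = cf1 𝐂[t]
    · rw [e, h2, one_pow]
    have h4 := Finset.add_le_sum (fun φ _ => sq_nonneg (n φ)) hφ cf1_mem_Bp e
    have h5 : n φ ≠ 0 := fun e' => (mem_B0.mp (mem_Bp.mp hφ).1).2 (by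
      have := h.orth (mem_Bp.mp hφ).1 (cf1_mem_B0 _ _) fun x => by
        rw [(mem_Bp.mp hφ).2, (mem_Bp.mp cf1_mem_Bp).2]
      rw [if_neg e, hn φ hφ, e', op, sum_fs_congr fun x hx => by
        rw [cf1_of_mem hx.1, map_one, mul_one]] at this
      simpa using this)
    rw [h1, h2] at h4
    have h6 : -2 < n φ ∧ n φ < 2 := by constructor <;> nlinarith
    obtain e | e : n φ = 1 ∨ n φ = -1 := by omega
    all_goals simp [e]
  refine ⟨by simp [Finset.sum_congr rfl h3] at h1; exact_mod_cast h1, fun φ hφ => ?_⟩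
  rcases sq_eq_one_iff_of_ne_zero_or' (h3 φ hφ) with e | e <;> simp [hn φ hφ, e]

theorem exists_theta {μ : G → ℂ} (hμ : μ ∈ Bm t) : ∃ s : ℤ, (s = 1 ∨ s = -1) ∧ ∃ j ∈ Bp t,
    j ≠ cf1 𝐂[t] ∧ ∀ x ∈ regSet 2 𝐂[t], s * μ x = 1 + j u * j x := by
  classical
  have h0 := B0_subset _ _ (h.mem_Bm.mp hμ).1
  choose! k hk using fun φ (hφ : φ ∈ Bp t) => sum_regSet_eq_int_mul Nat.prime_two h.syl.le
    h.syl.pgrp h.syl.ndvd (vchar_mul (irr_mem_VChar h0)
      (vchar_star (irr_mem_VChar (B0_subset _ _ (mem_Bp.mp hφ).1))))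
  choose! n hn using fun φ (hφ : φ ∈ Bp t) => h.int (B0_subset _ _ (mem_Bp.mp hφ).1)
  replace hk : ∀ φ ∈ Bp t, op 𝐂[t] μ φ = k φ * Q.relIndex 𝐂[t] := hk
  have hr := CH1.relIndex_ne_zero_C Q 𝐂[t]
  have hN : (𝐨(𝐂[t]) : ℂ) = 8 * Q.relIndex 𝐂[t] := by
    rw [← H1.card_mul_relIndex h.syl.le, h.card]; push_cast; ring
  have hu : ∀ φ ∈ Bp t, φ u * φ u = 1 := fun φ hφ => by
    rcases h.Bp_spec.2 φ hφ with e | e <;> simp [e]
  have h1 : ∀ x ∈ regSet 2 𝐂[t], 4 * μ x = ∑ φ ∈ Bp t, k φ * φ x := fun x hx => by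
    have := h.expand hμ hx
    rw [hN, Finset.sum_congr rfl fun φ hφ => by rw [hk φ hφ, mul_right_comm],
      ← Finset.sum_mul] at this
    refine mul_left_cancel₀ hr ?_
    linear_combination this / 2
  have h2 : ∀ c : (G → ℂ) → ℤ, ∑ φ ∈ Bp t, (c φ : ℂ) * op 𝐂[t] μ φ =
      op 𝐂[t] μ fun x => ∑ φ ∈ Bp t, c φ * φ x := fun c => by
    simp only [op, map_sum, Finset.mul_sum, map_mul, map_intCast]
    exact Finset.sum_comm.trans (sum_fs_congr fun y _ => Finset.sum_congr rfl fun φ _ => by ring)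
  obtain ⟨h3, j, hj, h4, h5, h6⟩ := four_sq h.Bp_spec.1 cf1_mem_Bp (m := fun φ => k φ * n φ) (by
      have := h2 n
      rw [op, Finset.sum_eq_zero (s := fs _) fun x hx => by
        rw [Finset.sum_congr rfl fun φ hφ => by rw [← hn φ hφ], ← h.eta_apply,
          h.eta_reg (mem_fs.mp hx), map_zero, mul_zero],
        Finset.sum_congr rfl fun φ hφ => by rw [hk φ hφ, ← mul_assoc, mul_comm (n φ : ℂ)],
        ← Finset.sum_mul, mul_eq_zero_iff_right hr] at this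
      exact_mod_cast this) (by
      have := h2 k
      have h3 := h.orth_m hμ hμ
      rw [op, sum_fs_congr fun x hx => by rw [← h1 x hx, map_mul, map_ofNat, mul_left_comm],
        ← Finset.mul_sum, Finset.sum_congr rfl fun φ hφ => by
          rw [hk φ hφ, ← mul_assoc, ← mul_one (k φ * k φ : ℂ), ← hu φ hφ, hn φ hφ,
            mul_mul_mul_comm, ← pow_two], ← Finset.sum_mul] at this
      rw [if_pos rfl, hN, op] at h3
      have h4 : (∑ φ ∈ Bp t, ((k φ : ℂ) * n φ) ^ 2) = 16 := mul_right_cancel₀ hr (by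
        linear_combination this + 2 * h3)
      exact_mod_cast h4)
  have h7 : ∀ x ∈ regSet 2 𝐂[t], 4 * μ x =
      2 * (k (cf1 𝐂[t]) * n (cf1 𝐂[t]) : ℤ) * (1 + j u * j x) := fun x hx => by
    have h8 := h.eta_reg hx
    have h9 := Finset.sum_eq_add_of_mem (f := fun φ => ((k φ * n φ + k (cf1 𝐂[t]) * n (cf1 𝐂[t]) : ℤ) : ℂ)
      * (φ u * φ x)) _ _ cf1_mem_Bp hj h4.symm fun φ hφ e => by rw [h6 φ hφ e]; simp
    rw [h5, cf1_of_mem h.u_mem, cf1_of_mem hx.1, Finset.sum_congr rfl fun φ hφ => by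
      rw [Int.cast_add, add_mul, Int.cast_mul (k φ), ← hn φ hφ, mul_assoc, ← mul_assoc (φ u),
        hu φ hφ, one_mul], Finset.sum_add_distrib, ← Finset.mul_sum, ← h.eta_apply, h8,
      ← h1 x hx, Int.cast_add] at h9
    linear_combination h9
  rcases h3 with e | e
  · exact ⟨1, .inl rfl, j, hj, h4, fun x hx => by
      have := h7 x hx; rw [e] at this; push_cast at this ⊢; linear_combination this / 4⟩
  · exact ⟨-1, .inr rfl, j, hj, h4, fun x hx => by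
      have := h7 x hx; rw [e] at this; push_cast at this ⊢; linear_combination -this / 4⟩

end Q8

end Cfsg.Agent.P1.BS
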