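/-
Brauer-Suzuki for quaternion Sylow subgroups of order 8: induction to `G`.
-/
import Cfsg.Agent.P1.B_Q1

set_option autoImplicit false

namespace Cfsg.Agent.P1.BS

open Subgroup Cfsg Cfsg.Agent Cfsg.Agent.FT
open scoped ComplexConjugate commutatorElement

universe u

variable {G : Type u} [Group G] [Finite G] {t u : G} {L Q : Subgroup G}

theorem split_three {H : Subgroup G} {θ E : G → ℂ} (hθ : θ ∈ VChar H) (h3 : nsq H θ = 3)
    (h1 : ip H θ (cf1 H) = 1) (hE : E ∈ VChar H) (h4 : ip H E E = 4) (h1' : ip H (cf1 H) E = 1)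
    (h2 : ip H θ E = 2) : ∃ α β, Dirr H α ∧ Dirr H β ∧ ip H α (cf1 H) = 0 ∧ ip H α β = 0 ∧
      ip H α E = 1 ∧ ip H β E = 0 ∧ θ = cf1 H + α + β := by
  obtain ⟨α, β, hα, hβ, h5, h6, h7, rfl⟩ := exists_three hθ h3 h1
  obtain ⟨a, ha⟩ := vchar_ip_int hα.mem_VChar hE
  obtain ⟨b, hb⟩ := vchar_ip_int hβ.mem_VChar hE
  have h8 : 1 + a + b = 2 := by
    rw [ip_add_left, ip_add_left, h1', ha, hb] at h2
    exact_mod_cast h2
  have h9 := nsq_nonneg H (E - cf1 H - a • α - b • β)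
  rw [nsq_eq_of_ip (r := (3 - a ^ 2 - b ^ 2 : ℤ)) (by
    simp [h4, h1', ha, hb, h5, h6, h7, ip_eq_zero_symm h5, ip_eq_zero_symm h6, ip_eq_zero_symm h7,
      ip_comm_of_int ha, ip_comm_of_int hb, ip_comm_of_int (n := 1) (h1'.trans Int.cast_one.symm),
      hα.ip_self, hβ.ip_self, ip_irr_self (cf1_mem_Irr H)]
    ring)] at h9
  norm_cast at h9
  obtain ⟨rfl, rfl⟩ | ⟨rfl, rfl⟩ : a = 1 ∧ b = 0 ∨ a = 0 ∧ b = 1 := by
    have : -1 < a ∧ a < 2 := by constructor <;> nlinarith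
    omega
  · exact ⟨α, β, hα, hβ, h5, h7, by simpa using ha, by simpa using hb, rfl⟩
  · exact ⟨β, α, hβ, hα, h6, ip_eq_zero_symm h7, by simpa using hb, by simpa using ha,
      add_right_comm _ _ _⟩

theorem ip_eq_zero_of_three {H : Subgroup G} {α β α' β' E : G → ℂ} (hα : Dirr H α) (hβ : Dirr H β)
    (hα' : Dirr H α') (hβ' : Dirr H β') (h1 : ip H α E = 1) (h2 : ip H β E = 0)
    (h1' : ip H α' E = 1) (h2' : ip H β' E = 0) (h3 : α 1 + β 1 = α' 1 + β' 1)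
    (h4 : ip H (α + β) (α' + β') = 0) : ip H α (α' + β') = 0 := by
  have key : ∀ {a b}, Dirr H a → Dirr H b → ip H a E = 1 → ip H b E = 0 → ip H a b = 0 :=
    fun ha hb e e' => (ha.ip_cases hb).elim (fun x => by simp [x, e'] at e)
      fun x => x.elim (fun x => by simp [x, e'] at e) id
  have h5 := key hα hβ' h1 h2'
  rw [ip_add_left, ip_add_right, ip_add_right, h5, ip_eq_zero_symm (key hα' hβ h1' h2)] at h4
  rw [ip_add_right, h5, add_zero]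
  rcases hα.ip_cases hα' with e | e | e
  · rw [e, hα'.ip_self] at h4
    have h6 := hβ.eq_of_ip_eq_one hβ'.neg (by rw [ip_neg_right]; linear_combination -h4)
    rw [e, h6, add_right_inj, Pi.neg_apply, neg_eq_self] at h3
    exact absurd h3 hβ'.one_ne_zero
  · rw [e, ip_neg_left, h1'] at h1
    norm_num at h1
  · exact e

namespace Q8

variable (h : Q8 t u L Q)
include h

theorem tiA : NormedTI (𝐂[t] \ regSet 2 𝐂[t]) ⊤ 𝐂[t] where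
  nonempty := ⟨t * 1, mul_mem self_mem (one_mem _), h.not_reg (one_mem_regSet _ _)⟩
  one_notMem e := e.2 (one_mem_regSet _ _)
  subset _ hx := hx.1
  le := le_top
  norm g hg a ha := ⟨mul_mem (mul_mem hg ha.1) (inv_mem hg),
    mt (conj_mem_regSet_iff (le_normalizer hg) a).mp ha.2⟩
  ti g _ a ha hg := by
    obtain ⟨k, hk⟩ : 2 ∣ orderOf a := by
      by_contra e
      exact ha.2 ⟨ha.1, ((Nat.Prime.coprime_iff_not_dvd Nat.prime_two).mpr e).symm⟩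
    have h0 : k ≠ 0 := fun e => (orderOf_pos a).ne' (by rw [hk, e, mul_zero])
    have h1 := h.uniq (a ^ k) (by rw [orderOf_pow_of_dvd h0 (hk ▸ dvd_mul_left k 2), hk,
      Nat.mul_div_cancel _ (Nat.pos_of_ne_zero h0)])
      (Commute.pow_right (mem_centralizer_singleton_iff.mp ha.1).symm k)
    refine h.mem_H ?_
    nth_rw 2 [← h1]
    rw [← conj_pow]
    exact Commute.pow_right (mem_centralizer_singleton_iff.mp hg.1).symm k

omit h in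
theorem ip_delta {K : Subgroup G} (hK : 𝐂[t] ≤ K) (ht : t * t = 1) {χ : G → ℂ} (hχ : χ ∈ B0 2 K) :
    ip 𝐂[t] χ (∑ φ ∈ B0 2 𝐂[t], conj (φ t) • φ) = χ t := by
  classical
  have h1 := B0_second Nat.prime_two (k := 1) (hK self_mem) (by rw [pow_one, pow_two, ht])
    (one_mem_regSet _ _) (B0_subset _ _ hχ)
  rw [inf_eq_right.mpr hK, mul_one, if_pos hχ] at h1
  rw [← h1, ip_sum_right]
  exact Finset.sum_congr rfl fun φ _ => by rw [ip_smul_right, Complex.conj_conj, mul_comm]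

theorem exists_normal : ∃ N : Subgroup G, N.Normal ∧ N ≠ ⊤ ∧ t ∈ N := by
  classical
  choose! s hs j hj hj1 hsj using fun μ (hμ : μ ∈ Bm t) => h.exists_theta hμ
  have hp : ∀ φ ∈ Bp t, φ ∈ Irr 𝐂[t] := fun φ hφ => B0_subset _ _ (mem_Bp.mp hφ).1
  have hm : ∀ φ ∈ Bm t, φ ∈ Irr 𝐂[t] := fun φ hφ => B0_subset _ _ (h.mem_Bm.mp hφ).1
  have hss : ∀ μ ∈ Bm t, (s μ : ℂ) * s μ = 1 := fun μ hμ => by
    rcases hs μ hμ with e | e <;> simp [e]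
  have hu : ∀ φ ∈ Bp t, φ u * φ u = 1 := fun φ hφ => by
    rcases h.Bp_spec.2 φ hφ with e | e <;> simp [e]
  have hpm : ∀ φ ∈ Bp t, ∀ μ ∈ Bm t, ip 𝐂[t] φ μ = 0 := fun φ hφ μ hμ =>
    ip_irr_of_ne (hp φ hφ) (hm μ hμ) fun e => by simpa [e, h.Bm_u hμ] using hu φ hφ
  have hmp := fun φ hφ μ hμ => ip_eq_zero_symm (hpm φ hφ μ hμ)
  have hinj : ∀ μ ∈ Bm t, ∀ ν ∈ Bm t, j μ = j ν ↔ μ = ν := fun μ hμ ν hν => ⟨fun e => by
    by_contra e'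
    have h1 : s μ * op 𝐂[t] μ ν = s ν * op 𝐂[t] ν ν := by
      simp only [op, Finset.mul_sum]
      exact sum_fs_congr fun x hx => by rw [← mul_assoc, hsj μ hμ x hx, e, ← hsj ν hν x hx, mul_assoc]
    have h2 := h.orth_m hμ hν
    have h3 := h.orth_m hν hν
    rw [if_neg e'] at h2
    rw [if_pos rfl] at h3
    refine card_ne_zero_C 𝐂[t] ?_
    linear_combination -h3 - 2 * s ν * h1 + s ν * s μ * h2 - 2 * op 𝐂[t] ν ν * hss ν hν,
    congrArg j⟩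
  have h1j : ∀ μ ∈ Bm t, ip 𝐂[t] (j μ) (cf1 𝐂[t]) = 0 := fun μ hμ =>
    ip_irr_of_ne (hp _ (hj μ hμ)) (cf1_mem_Irr _) (hj1 μ hμ)
  obtain ⟨θ, hθ⟩ : ∃ θ : (G → ℂ) → G → ℂ, θ = fun μ => cf1 𝐂[t] + j μ u • j μ - (s μ : ℂ) • μ :=
    ⟨_, rfl⟩
  have hθV : ∀ μ ∈ Bm t, θ μ ∈ VChar 𝐂[t] := fun μ hμ => by
    obtain ⟨n, hn⟩ := h.int (hp _ (hj μ hμ))
    rw [hθ]
    exact sub_mem (add_mem (cf1_mem_VChar _) (hn ▸ vchar_int_smul (irr_mem_VChar (hp _ (hj μ hμ))) n))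
      (vchar_int_smul (irr_mem_VChar (hm μ hμ)) _)
  have hθ0 : ∀ μ ∈ Bm t, ∀ x ∈ regSet 2 𝐂[t], θ μ x = 0 := fun μ hμ x hx => by
    simp [hθ, cf1_of_mem hx.1, hsj μ hμ x hx]
  have hθt : ∀ μ ∈ Bm t, ∀ x ∈ regSet 2 𝐂[t], θ μ (t * x) = 2 * (s μ * μ x) := fun μ hμ x hx => by
    simp [hθ, cf1_of_mem (mul_mem self_mem hx.1), (mem_Bp.mp (hj μ hμ)).2, (h.mem_Bm.mp hμ).2,
      hsj μ hμ x hx]
    ring
  have hθA : ∀ μ ∈ Bm t, θ μ ∈ CFon 𝐂[t] (𝐂[t] \ regSet 2 𝐂[t]) := fun μ hμ =>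
    mem_CFon_of (vchar_mem_CF (hθV μ hμ)) fun x hx e => hθ0 μ hμ x (not_not.mp fun e' => e ⟨hx, e'⟩)
  have hηA : eta u L 𝐂[t] ∈ CFon 𝐂[t] (𝐂[t] \ regSet 2 𝐂[t]) :=
    mem_CFon_of (ind_mem_CF _ _ _) fun x hx e => h.eta_reg (not_not.mp fun e' => e ⟨hx, e'⟩)
  have hE : ind ⊤ 𝐂[t] (eta u L 𝐂[t]) = eta u L ⊤ := ind_ind le_top h.C_le _
  have hjθ : ∀ μ ∈ Bm t, ∀ ν ∈ Bm t, ip 𝐂[t] (j μ u • j μ) (θ ν) = if μ = ν then 1 else 0 :=
    fun μ hμ ν hν => by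
      simp only [hθ, ip_smul_left, ip_sub_right, ip_add_right, ip_smul_right, h1j μ hμ,
        hpm _ (hj μ hμ) ν hν, ip_irr (hp _ (hj μ hμ)) (hp _ (hj ν hν)), hinj μ hμ ν hν,
        h.real (hp _ (hj ν hν))]
      split_ifs with e
      · simpa [e] using hu _ (hj ν hν)
      · simp
  have h1θ : ∀ μ ∈ Bm t, ip 𝐂[t] (cf1 𝐂[t]) (θ μ) = 1 := fun μ hμ => by
    simp [hθ, ip_eq_zero_symm (h1j μ hμ), hpm _ cf1_mem_Bp μ hμ, ip_irr_self (cf1_mem_Irr _)]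
  have hθθ : ∀ μ ∈ Bm t, ∀ ν ∈ Bm t, ip ⊤ (ind ⊤ 𝐂[t] (θ μ)) (ind ⊤ 𝐂[t] (θ ν)) =
      if μ = ν then 3 else 1 := fun μ hμ ν hν => by
    rw [h.tiA.ip_ind (hθA μ hμ) (hθA ν hν)]
    nth_rw 1 [hθ]
    rw [ip_sub_left, ip_add_left, h1θ ν hν, hjθ μ hμ ν hν]
    simp only [hθ, ip_smul_left, ip_sub_right, ip_add_right, ip_smul_right, hmp _ cf1_mem_Bp μ hμ,
      hmp _ (hj ν hν) μ hμ, ip_irr (hm μ hμ) (hm ν hν), map_intCast]
    split_ifs with e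
    · rw [e]; linear_combination hss ν hν
    · simp
  have hjη : ∀ μ ∈ Bm t, ip 𝐂[t] (j μ u • j μ) (eta u L 𝐂[t]) = 1 := fun μ hμ => by
    rw [ip_smul_left, h.ip_eta h.C_le (hp _ (hj μ hμ)), if_pos (mem_Bp.mp (hj μ hμ)).1,
      hu _ (hj μ hμ)]
  have h1Θ : ∀ μ ∈ Bm t, ip ⊤ (ind ⊤ 𝐂[t] (θ μ)) (cf1 ⊤) = 1 := fun μ hμ => by
    rw [ip_ind_left le_top _ (cf1_mem_CF _), ← ip_res_right, res_cf1 le_top, ← conj_ip, h1θ μ hμ,
      map_one]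
  choose! X M hX hM h1X hXM hXE hME hΘ using fun μ (hμ : μ ∈ Bm t) =>
    split_three (vchar_ind le_top (hθV μ hμ))
      (nsq_eq_of_ip (by rw [hθθ μ hμ μ hμ, if_pos rfl]; norm_num)) (h1Θ μ hμ)
      (hE ▸ vchar_ind le_top h.eta_mem) (h.ip_eta_self le_top)
      (by rw [h.ip_eta le_top (cf1_mem_Irr _), if_pos (cf1_mem_B0 _ _), cf1_top_apply]) (by
        rw [← hE, h.tiA.ip_ind (hθA μ hμ) hηA, hθ, ip_sub_left, ip_add_left, hjη μ hμ, ip_smul_left,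
          h.ip_eta h.C_le (cf1_mem_Irr _), h.ip_eta h.C_le (hm μ hμ), if_pos (cf1_mem_B0 _ _),
          cf1_of_mem h.u_mem, h.Bm_u hμ]
        norm_num)
  have hΘ0 : ∀ μ ∈ Bm t, ∀ x, Odd (orderOf x) → 1 + X μ x + M μ x = 0 := fun μ hμ x hx => by
    have := ind_apply_eq_zero (L := ⊤) (g := x) fun g _ hg => hθ0 μ hμ _ ⟨hg, by
      rw [← MulAut.conj_inv_apply, MulEquiv.orderOf_eq]; exact Nat.coprime_two_right.mpr hx⟩
    simpa [hΘ μ hμ] using this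
  obtain ⟨μ, hμ⟩ : (Bm t).Nonempty := by
    by_contra e
    have h1 := h.gram (one_mem_regSet _ _) (one_mem_regSet _ _)
    rw [Finset.not_nonempty_iff_eq_empty.mp e, Finset.sum_empty, Finset.sum_congr rfl
      fun φ hφ => by rw [irr_one_eq (hp φ hφ), map_natCast]] at h1
    norm_cast at h1
    simpa using Finset.sum_eq_zero_iff.mp h1 _ cf1_mem_Bp
  have hXθ : ∀ ν ∈ Bm t, ip 𝐂[t] (X μ) (θ ν) = ip 𝐂[t] (j μ u • j μ) (θ ν) := fun ν hν => by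
    rw [hjθ μ hμ ν hν, ← ip_ind_right le_top (hX μ hμ).mem_CF, hΘ ν hν, add_assoc, ip_add_right,
      h1X μ hμ, zero_add]
    split_ifs with e
    · rw [← e, ip_add_right, hXM μ hμ, (hX μ hμ).ip_self, add_zero]
    refine ip_eq_zero_of_three (hX μ hμ) (hM μ hμ) (hX ν hν) (hM ν hν) (hXE μ hμ) (hME μ hμ)
      (hXE ν hν) (hME ν hν) (by linear_combination hΘ0 μ hμ 1 (by simp) - hΘ0 ν hν 1 (by simp)) ?_
    have h1 : ∀ μ ∈ Bm t, X μ + M μ = ind ⊤ 𝐂[t] (θ μ) - cf1 ⊤ := fun μ hμ => by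
      rw [hΘ μ hμ]; abel
    rw [h1 μ hμ, h1 ν hν, ip_sub_left, ip_sub_right, ip_sub_right, hθθ μ hμ ν hν, if_neg e,
      h1Θ μ hμ, ← conj_ip, h1Θ ν hν, ip_irr_self (cf1_mem_Irr _)]
    simp
  obtain ⟨δ, hδ⟩ : ∃ δ, δ = ∑ φ ∈ B0 2 𝐂[t], conj (φ t) • φ := ⟨_, rfl⟩
  obtain ⟨c, hc⟩ : ∃ c : ℂ, ∀ x ∈ 𝐂[t],
      δ x = (∑ ν ∈ Bm t, (s ν * conj (ν 1)) • θ ν + c • eta u L 𝐂[t]) x := by
    refine ⟨(δ u - (∑ ν ∈ Bm t, (s ν * conj (ν 1)) • θ ν) u) / 4, fun x hx => ?_⟩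
    have h1 : ∀ y ∈ regSet 2 𝐂[t], ∑ φ ∈ B0 2 𝐂[t], conj (φ t) * φ (t * y) =
        ∑ ν ∈ Bm t, s ν * conj (ν 1) * θ ν (t * y) := fun y hy => by
      rw [sum_B0_eq, Finset.sum_congr rfl fun φ hφ => by
        rw [(mem_Bp.mp hφ).2, ← mul_one t, (mem_Bp.mp hφ).2, mul_comm],
        h.gram hy (one_mem_regSet _ _), ← Finset.sum_add_distrib]
      refine Finset.sum_congr rfl fun φ hφ => ?_
      rw [hθt φ hφ y hy, (h.mem_Bm.mp hφ).2, ← mul_one t, (h.mem_Bm.mp hφ).2, map_neg]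
      linear_combination -2 * φ y * conj (φ 1) * hss φ hφ
    simp only [hδ, Pi.add_apply, Pi.smul_apply, Finset.sum_apply, smul_eq_mul]
    rcases h.tri hx with e | e | ⟨g, hg, y, hy, rfl⟩
    · rw [h.eta_reg e, Finset.sum_congr rfl fun φ _ => mul_comm _ (φ x),
        sum_B0_reg_sing Nat.prime_two _ e.2 h.ht.symm.dvd,
        Finset.sum_eq_zero fun ν hν => by rw [hθ0 ν hν x e, mul_zero], mul_zero, add_zero]
    · have := h1 _ e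
      rw [← mul_assoc, h.tt, one_mul] at this
      rw [this, ← h.eta_t, h.eta_reg e, mul_zero, add_zero]
    · rw [h.eta_sec hg hy, Finset.sum_congr rfl fun φ hφ => by rw [h.const hφ hg hy],
        Finset.sum_congr (s₁ := Bm t) (g := fun ν => s ν * conj (ν 1) * θ ν u) rfl fun ν hν => by
          simp [hθ, h.const (cf1_mem_B0 _ _) hg hy, h.const (mem_Bp.mp (hj ν hν)).1 hg hy,
            h.const (h.mem_Bm.mp hν).1 hg hy]]
      ring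
  have h1 : ip 𝐂[t] (X μ) δ = ip 𝐂[t] (j μ u • j μ) δ := by
    rw [ip_congr (fun _ _ => rfl) hc, ip_congr (φ := j μ u • j μ) (fun _ _ => rfl) hc, ip_add_right,
      ip_add_right, ip_sum_right, ip_sum_right, ip_smul_right, ip_smul_right, hjη μ hμ,
      ← ip_ind_right le_top (hX μ hμ).mem_CF, hE, hXE μ hμ,
      Finset.sum_congr rfl fun ν hν => by rw [ip_smul_right, hXθ ν hν, ← ip_smul_right]]
  have h2 : ip 𝐂[t] (X μ) δ = X μ t := by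
    obtain ⟨ε, -, χ, hχ, e⟩ := (hX μ hμ).exists_sign
    have h3 := hXE μ hμ
    rw [e, ip_smul_left, h.ip_eta le_top hχ] at h3
    rw [e, ip_smul_left, hδ, ip_delta le_top h.tt (not_not.mp fun e' => by simp [e'] at h3)]
    rfl
  rw [h2, ip_smul_left, hδ, ip_delta le_rfl h.tt (mem_Bp.mp (hj μ hμ)).1] at h1
  have h3 := h.tiA.ind_apply (hθA μ hμ) ⟨mul_mem self_mem (one_mem _),
    h.not_reg (one_mem_regSet _ _)⟩
  rw [hθt μ hμ 1 (one_mem_regSet _ _), hsj μ hμ 1 (one_mem_regSet _ _),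
    ← (mem_Bp.mp (hj μ hμ)).2 1, mul_one, ← h1, hΘ μ hμ] at h3
  refine of_three h.ht h.uniq (hX μ hμ) (hM μ hμ) (h1X μ hμ) (hΘ0 μ hμ) (congrArg (· ^ 2) ?_)
  simp only [Pi.add_apply, cf1_top_apply] at h3
  linear_combination h3

end Q8

end Cfsg.Agent.P1.BS
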