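/-
Brauer-Suzuki for quaternion Sylow subgroups of order 8.
-/
import Cfsg.Agent.P1.B_Q2
import Cfsg.Agent.FT.BG01

set_option autoImplicit false

namespace Cfsg.Agent.P1.BS

open Subgroup Cfsg Cfsg.Agent Cfsg.Agent.FT
open scoped ComplexConjugate commutatorElement

universe u

variable {G : Type u} [Group G] [Finite G] {t : G}

theorem cases_zpowers {v z : G} (ht : t * t = 1) (hv : v * v = t) (hz : z ∈ zpowers v) :
    z = 1 ∨ z = t ∨ z = v ∨ z = v * t := by
  obtain ⟨n, rfl⟩ := mem_powers_iff_mem_zpowers.mpr hz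
  have h4 : v ^ 4 = 1 := by rw [← ht, ← hv]; simp only [pow_succ, pow_zero, one_mul, mul_assoc]
  have := Nat.mod_lt n four_pos
  simp only [pow_eq_pow_mod n h4]
  interval_cases n % 4 <;> simp [pow_succ, ← hv, mul_assoc]

theorem q8 (ht : orderOf t = 2) (h : ∀ s, orderOf s = 2 → Commute t s → s = t) (S : Sylow 2 G)
    (hS : Nat.card S = 8) (hc : ¬ IsCyclic S) :
    ∃ N : Subgroup G, N.Normal ∧ N ≠ ⊤ ∧ t ∈ N := by
  have hp := Nat.prime_two
  have htt := mul_self ht
  have ht1 : t ≠ 1 := fun e => by simp [e] at ht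
  have h4 : ∀ x : G, IsPGroup 2 (zpowers x) → x * x * (x * x) = 1 := fun x hx => by
    obtain ⟨g, -, hg⟩ := (isSyl_top_coe hp S).exists_conj_le hp hx le_top
    have h1 := hg (conj_mem_conj (mem_zpowers x) g)
    have h2 : orderOf (⟨_, h1⟩ : S) = orderOf x :=
      (orderOf_coe _).symm.trans ((MulAut.conj g).orderOf_eq x)
    obtain ⟨k, h3, h5⟩ := (Nat.dvd_prime_pow hp (m := 3) (i := orderOf x)).mp (by
      rw [← h2, show 2 ^ 3 = 8 from rfl, ← hS]; exact _root_.orderOf_dvd_natCard _)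
    have h6 : k ≠ 3 := fun e => hc (isCyclic_of_orderOf_eq_card _ (by rw [h2, h5, e, hS]; rfl))
    rw [← pow_two, ← pow_two, ← pow_mul, ← orderOf_dvd_iff_pow_eq_one, h5]
    exact pow_dvd_pow 2 (by omega : k ≤ 2)
  have hi : ∀ x v, Commute t x → x * x = 1 → v * v = t → x ∈ zpowers v := fun x v h1 h2 h3 => by
    by_cases e : x = 1
    · exact e ▸ one_mem _
    · rw [h x (orderOf_eq_prime (by rw [pow_two, h2]) e) h1, ← h3]
      exact mul_mem (mem_zpowers v) (mem_zpowers v)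
  have hq : ∀ x, Commute t x → IsPGroup 2 (zpowers x) → x * x ≠ 1 → x * x = t := fun x h1 h2 h3 =>
    h _ (orderOf_eq_prime (by rw [pow_two, h4 x h2]) h3) (h1.mul_right h1)
  obtain ⟨T, hT, htT⟩ := exists_isSyl_ge hp (H8.isPGroup_zpowers_of_orderOf (k := 1) ht) le_top
  have hT8 : 𝐨(T) = 8 := (hT.card_eq hp (isSyl_top_coe hp S)).trans hS
  replace htT := htT (mem_zpowers t)
  have hTC : ∀ x ∈ T, Commute t x := fun x hx => by
    obtain ⟨k, hk⟩ := hT.pgrp ⟨_, mul_mem (mul_mem (mul_mem hx htT) (inv_mem hx)) htT⟩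
    have h1 := orderOf_eq_one_iff.mp (Nat.eq_one_of_dvd_coprimes ((Nat.coprime_two_right.mpr
      (odd_conj_mul ht h x)).pow_right k) dvd_rfl (orderOf_dvd_of_pow_eq_one (congrArg Subtype.val hk)))
    rw [← htt, mul_left_inj, mul_inv_eq_iff_eq_mul] at h1
    exact h1.symm
  have hTp : ∀ x ∈ T, IsPGroup 2 (zpowers x) := fun x hx => hT.pgrp.to_le (zpowers_le.mpr hx)
  have ho : ∀ v, v * v = t → orderOf v = 2 ^ 2 := fun v hv => orderOf_eq_prime_pow
    (by rwa [pow_one, pow_two, hv]) (by rw [← htt, ← hv, ← pow_two, ← pow_two, ← pow_mul]; rfl)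
  have hnle : ∀ v, orderOf v ≤ 2 ^ 2 → ¬ T ≤ zpowers v := fun v hv e => by
    have := card_le_of_le e
    rw [Nat.card_zpowers] at this
    omega
  have hout : ∀ v w, v * v = t → w ∈ T → w ∉ zpowers v → w * w = t := fun v w hv hw e =>
    hq w (hTC w hw) (hTp w hw) fun e' => e (hi w v (hTC w hw) e' hv)
  have hinv : ∀ v ∈ T, v * v = t → ∃ w, w * v⁻¹ * w⁻¹ = v := fun v hv h1 => by
    obtain ⟨w, hw, h2⟩ := SetLike.not_le_iff_exists.mp (hnle v (ho v h1).le)
    have h3 := hout v _ h1 (mul_mem hw hv) (mt (mul_mem_cancel_right (mem_zpowers v)).mp h2)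
    rw [← hout v w h1 hw h2, mul_assoc, mul_right_inj] at h3
    exact ⟨w, by nth_rw 1 [← h3]; group⟩
  have hct : ∀ v ∈ T, v * v = t → IsConj (v * t) v := fun v hv h1 => by
    rw [show v * t = v⁻¹ by rw [eq_inv_iff_mul_eq_one, mul_assoc, (hTC v hv).eq, ← mul_assoc, h1, htt]]
    exact isConj_iff.mpr (hinv v hv h1)
  obtain ⟨u, hu, huu⟩ : ∃ u ∈ T, u * u = t := by
    by_contra e
    refine hnle t (by rw [ht]; norm_num) fun x hx => ?_
    by_cases e' : x = 1
    · exact e' ▸ one_mem _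
    · rw [h x (orderOf_eq_prime (by
        rw [pow_two]; exact not_not.mp fun a => e ⟨x, hx, hq x (hTC x hx) (hTp x hx) a⟩) e') (hTC x hx)]
      exact mem_zpowers t
  by_cases hG : ⁅(⊤ : Subgroup G), (⊤ : Subgroup G)⁆ ≠ ⊤
  · obtain ⟨w, hw⟩ := hinv u hu huu
    refine ⟨_, inferInstance, hG, ?_⟩
    rw [← huu]
    nth_rw 2 [← hw]
    simpa only [commutatorElement_def, mul_assoc] using
      commutator_mem_commutator (mem_top u) (mem_top w)
  have hF : ∀ v ∈ T, ∀ w ∈ T, v * v = t → w * w = t → ¬ IsConj w v → IsConj (w * v) v := by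
    intro v hv w hw h1 h2 h3
    have h5 : (zpowers v).relIndex T = 2 := by
      have := H1.card_mul_relIndex (zpowers_le.mpr hv)
      rw [Nat.card_zpowers, ho v h1] at this
      omega
    have h6 : ∀ a ∈ T, ∀ b ∈ T, a⁻¹ * b ∈ zpowers v ↔ (a ∈ zpowers v ↔ b ∈ zpowers v) :=
      fun a ha b hb => (mul_mem_iff_of_index_two h5 (a := ⟨a, ha⟩⁻¹) (b := ⟨b, hb⟩)).trans
        (by rw [inv_mem_iff]; rfl)
    have h7 : ∀ y ∈ T, ∀ z ∈ zpowers v, y * y = t → IsConj y z → IsConj y v := fun y hy z hz a b => by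
      have h8 : z * z ≠ 1 := fun e => ht1 (by
        obtain ⟨g, rfl⟩ := isConj_iff.mp b
        rwa [conj_mul, a, conj_eq_one_iff] at e)
      rcases cases_zpowers htt h1 hz with rfl | rfl | rfl | rfl
      exacts [absurd (mul_one 1) h8, absurd htt h8, b, b.trans (hct v hv h1)]
    obtain ⟨y, hy, h8, h9⟩ : ∃ y ∈ T, y ∉ zpowers v ∧ IsConj y v := by
      by_contra e
      refine hnle v (ho v h1).le ?_
      rw [← inf_top_eq T, ← not_not.mp hG]
      refine focal_le hp hT fun x hx g _ hg => (h6 x hx _ hg).mpr ⟨fun a => ?_, fun a => ?_⟩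
      · exact not_not.mp fun b => e ⟨_, hg, b, h7 _ hg x a (hout v _ h1 hg b)
          (isConj_iff.mpr ⟨g, rfl⟩).symm⟩
      · exact not_not.mp fun b => e ⟨x, hx, b, h7 x hx _ a (hout v _ h1 hx b)
          (isConj_iff.mpr ⟨g, rfl⟩)⟩
    have h10 : w ∉ zpowers v := fun e => h3 (h7 w hw w e h2 (IsConj.refl w))
    rcases cases_zpowers htt h1 ((h6 w hw y hy).mpr (iff_of_false h10 h8)) with e | e | e | e <;>
      rw [inv_mul_eq_iff_eq_mul] at e <;> subst e
    · exact absurd (mul_one w ▸ h9) h3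
    · exact absurd ((hct w hw h2).symm.trans h9) h3
    · exact h9
    · rw [← mul_assoc] at h9
      exact (hct _ (mul_mem hw hv) (hout v _ h1 (mul_mem hw hv)
        (mt (mul_mem_cancel_right (mem_zpowers v)).mp h10))).symm.trans h9
  have hU : IsSyl 2 (zpowers u) 𝐂[u] := isSyl_of_maximal hp (zpowers_le.mpr self_mem) (hTp u hu)
    fun R h1 h2 h3 => le_antisymm (fun x hx => by
      have h5 : Commute x u := mem_centralizer_singleton_iff.mp (h2 hx)
      have h6 : Commute t x := huu ▸ h5.symm.mul_left h5.symm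
      by_cases e : x * x = 1
      · exact hi x u h6 e huu
      refine (mul_mem_cancel_right (mem_zpowers u)).mp (hi _ u (h6.mul_right (hTC u hu)) ?_ huu)
      rw [← pow_two, h5.mul_pow, pow_two, pow_two, huu, hq x h6 (h3.to_le (zpowers_le.mpr hx)) e,
        htt]) h1
  obtain ⟨L, hL1, hL2, k, hL3⟩ := exists_npc hp ((hasNPC_iff hp).mp (burnside_npc hp hU
    (inf_le_left.trans (by rw [zpowers_eq_closure, centralizer_closure]))))
  refine Q8.exists_normal (u := u) (L := L) (Q := T) ⟨ht, h, huu, hL1, hL2, ?_, fun x j h1 h2 => ?_,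
    hT.of_le (fun x hx => mem_centralizer_singleton_iff.mpr (hTC x hx).symm) le_top, hT8⟩
  · have h1 := (H1.card_mul_relIndex hL1.1).trans (H1.card_mul_relIndex hU.le).symm
    rw [Nat.card_zpowers, ho u huu, hL3] at h1
    rw [hL3]
    exact Nat.dvd_antisymm ((((Nat.Prime.coprime_iff_not_dvd hp).mpr hU.ndvd).pow_left
      k).dvd_of_dvd_mul_right (h1 ▸ dvd_mul_left _ _))
      ((hL2.symm.pow_left 2).dvd_of_dvd_mul_left (h1 ▸ dvd_mul_right _ _))
  · obtain ⟨g, -, hg⟩ := hT.exists_conj_le hp (H8.isPGroup_zpowers_of_orderOf h1) le_top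
    replace hg := hg (conj_mem_conj (mem_zpowers x) g)
    have h3 := hq _ (hTC _ hg) (hTp _ hg) (by rwa [conj_mul, Ne, conj_eq_one_iff])
    refine isConj_iff.mp (IsConj.trans ?_ (isConj_iff.mpr ⟨g, rfl⟩).symm)
    generalize g * x * g⁻¹ = w at hg h3
    by_contra e
    exact e (((hF w hg u hu h3 huu e).symm.trans (isConj_iff.mpr ⟨w, by group⟩)).trans
      (hF u hu w hg huu h3 fun a => e a.symm)).symm

end Cfsg.Agent.P1.BS
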