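/-
The Brauer-Suzuki theorem: reduction to the character-theoretic cases.
-/
import Cfsg.Agent.P1.B_1
import Cfsg.Agent.P1.B_Q8

set_option autoImplicit false

namespace Cfsg.Agent.P1

open Subgroup Cfsg Cfsg.Agent Cfsg.Agent.FT
open scoped ComplexConjugate commutatorElement

universe u

namespace BS

variable {G : Type u} [Group G] [Finite G] {t : G}

theorem eq_of_mem_pgroup (h : ∀ s, orderOf s = 2 → Commute t s → s = t) {P : Subgroup G}
    (hP : IsPGroup 2 P) (htP : t ∈ P) {s : G} (hs : orderOf s = 2) (hsP : s ∈ P) : s = t := by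
  have : Nontrivial P := ⟨⟨s, hsP⟩, 1, fun e => by
    simp [show s = 1 from Subtype.ext_iff.mp e] at hs⟩
  have := hP.center_nontrivial
  obtain ⟨k, hk, e⟩ := (hP.to_subgroup (center P)).nontrivial_iff_card.mp this
  obtain ⟨z, hz⟩ := exists_prime_orderOf_dvd_card' (G := center P) 2
    (e ▸ dvd_pow_self 2 hk.ne')
  have h1 : ∀ x ∈ P, Commute x z := fun x hx =>
    Subtype.ext_iff.mp (mem_center_iff.mp z.2 ⟨x, hx⟩)
  exact h s hs (h z (by rwa [orderOf_coe, orderOf_coe]) (h1 t htP) ▸ (h1 s hsP).symm)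

theorem exists_normal (ht : orderOf t = 2) (h : ∀ s, orderOf s = 2 → Commute t s → s = t)
    (hG : ¬ HasNormalPComplement 2 G) : ∃ N : Subgroup G, N.Normal ∧ N ≠ ⊤ ∧ t ∈ N := by
  obtain ⟨S, hS⟩ := (H8.isPGroup_zpowers_of_orderOf (p := 2) (k := 1) ht).exists_le_sylow
  have h1 : ∀ a : S, orderOf a = 2 → (a : G) = t := fun a ha =>
    eq_of_mem_pgroup h S.isPGroup' (hS (mem_zpowers t)) (by rwa [orderOf_coe]) a.2
  have hc : ¬ IsCyclic S := fun e => hG (H8.hasNPC_two_of_isCyclic S e)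
  obtain ⟨k, hk, ⟨e⟩⟩ := (H3.isCyclic_or_quaternion_of_unique_involution S.isPGroup'
    fun a b ha hb => Subtype.ext ((h1 a ha).trans (h1 b hb).symm)).resolve_left hc
  rcases hk.eq_or_lt with rfl | hk
  · exact q8 ht h S ((Nat.card_congr e.toEquiv).trans (H3.quaternion_nat_card _)) hc
  obtain ⟨x, y, h2, -, -, -, h3⟩ := H3.exists_gens_of_mulEquiv_quaternion e
  refine big ht h (x := x) (s := y) ?_ (Subtype.ext_iff.mp h3) ?_
  · rw [orderOf_coe, h2]
    exact Nat.mul_dvd_mul_left 2 (pow_dvd_pow 2 hk)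
  · rw [← h1 (x ^ 2 ^ k) (by
      rw [orderOf_pow, h2, Nat.gcd_mul_left_left, Nat.mul_div_cancel _ (by positivity)])]
    exact (Commute.refl _).pow_left _

theorem quotient (ht : orderOf t = 2) (h : ∀ s, orderOf s = 2 → Commute t s → s = t)
    (N : Subgroup G) [N.Normal] (hN : (Nat.card N).Coprime 2) :
    orderOf (t : G ⧸ N) = 2 ∧ ∀ s : G ⧸ N, orderOf s = 2 → Commute (t : G ⧸ N) s → s = t := by
  have h0 : ∀ x ∈ N, ∀ k, orderOf x = 2 ^ k → x = 1 := fun x hx k hk =>
    H8.eq_one_of_orderOf_pow_of_coprime hk (hN.coprime_dvd_left (orderOf_dvd_card_of_mem hx))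
  have h1 : orderOf (t : G ⧸ N) = 2 := orderOf_eq_prime
    (by rw [← QuotientGroup.mk_pow, ← ht, pow_orderOf_eq_one, QuotientGroup.mk_one]) fun e => by
      simp [h0 t ((QuotientGroup.eq_one_iff _).mp e) 1 ht] at ht
  refine ⟨h1, fun s hs hc => ?_⟩
  obtain ⟨S, hS⟩ := (H8.isPGroup_zpowers_of_orderOf (p := 2) (k := 1) ht).exists_le_sylow
  have hX : IsPGroup 2 (zpowers (t : G ⧸ N) ⊔ zpowers s : Subgroup _) :=
    (H8.isPGroup_zpowers_of_orderOf (k := 1) h1).to_sup_of_normal_right'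
      (H8.isPGroup_zpowers_of_orderOf (k := 1) hs) (zpowers_le.mpr (centralizer_le_normalizer _
        fun x hx => by obtain ⟨i, rfl⟩ := hx; exact (hc.symm.zpow_left i).eq))
  obtain ⟨g, hg⟩ := H8.exists_conj_le_sylow (S.mapSurjective (QuotientGroup.mk'_surjective N)) hX
  have h2 : ∀ a ∈ zpowers (t : G ⧸ N) ⊔ zpowers s, orderOf a = 2 → g * a * g⁻¹ = t := by
    intro a ha ha2
    obtain ⟨b, hb, e⟩ := hg a ha
    have h3 : orderOf (QuotientGroup.mk' N b) = 2 := by
      rw [e, ← MulAut.conj_apply, MulEquiv.orderOf_eq, ha2]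
    obtain ⟨k, hk⟩ := H8.exists_orderOf_eq_pow_of_mem S.isPGroup' (pow_mem hb 2)
    rw [← e, eq_of_mem_pgroup h S.isPGroup' (hS (mem_zpowers t)) (s := b) (orderOf_eq_prime
      (h0 _ ((QuotientGroup.eq_one_iff _).mp (by
        rw [QuotientGroup.mk_pow, ← h3]; exact pow_orderOf_eq_one _)) k hk)
      fun e' => by simp [e'] at h3) hb]
    rfl
  simpa using (h2 s (mem_sup_right (mem_zpowers _)) hs).trans
    (h2 _ (mem_sup_left (mem_zpowers _)) h1).symm

theorem aux (n : ℕ) : ∀ (G : Type u) [Group G] [Finite G], Nat.card G = n → ∀ t : G,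
    orderOf t = 2 → (∀ s, orderOf s = 2 → Commute t s → s = t) →
    ∀ g, ⁅t, g⁆ ∈ pPrimeCore 2 G := by
  induction n using Nat.strong_induction_on with
  | _ n ih =>
  intro G _ _ hn t ht h g
  by_cases hO : pPrimeCore 2 G = ⊥
  · have h1 : orderOf (g * t * g⁻¹) = 2 := by rw [← MulAut.conj_apply, MulEquiv.orderOf_eq, ht]
    suffices e : g * t * g⁻¹ = t by
      rw [commutatorElement_eq_one_iff_mul_comm.mpr (mul_inv_eq_iff_eq_mul.mp e).symm]
      exact one_mem _
    by_cases hG : HasNormalPComplement 2 G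
    · refine eq_of_mem_pgroup h (P := ⊤) (IsPGroup.to_subgroup ?_ _) (mem_top _) h1 (mem_top _)
      rw [← H8.pResidual_eq_bot_iff Nat.prime_two,
        H8.hasNPC_iff_pResidual_eq_pPrimeCore.mp hG, hO]
    obtain ⟨N, hN, hN', htN⟩ := exists_normal ht h hG
    have h2 := ih _ (hn ▸ L.card_lt_of_ne_top hN') N rfl ⟨t, htN⟩ (by rwa [orderOf_mk])
      (fun s hs hc => Subtype.ext (h s (by rwa [orderOf_coe]) (Subtype.ext_iff.mp hc)))
      ⟨_, hN.conj_mem t htN g⟩
    have h3 := mem_map_of_mem N.subtype h2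
    rw [L.map_subtype_pPrimeCore Nat.prime_two, hO, bot_inf_eq, mem_bot, map_commutatorElement,
      commutatorElement_eq_one_iff_commute] at h3
    exact h _ h1 h3
  · obtain ⟨h1, h2⟩ := quotient ht h _ (L.coprime_card_pPrimeCore 2)
    have h3 := ih _ (hn ▸ L.card_quotient_lt _ hO) _ rfl _ h1 h2 g
    rwa [L.pPrimeCore_quotient_pPrimeCore Nat.prime_two, mem_bot, ← QuotientGroup.mk'_apply,
      ← QuotientGroup.mk'_apply, ← map_commutatorElement, QuotientGroup.mk'_apply,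
      QuotientGroup.eq_one_iff] at h3

end BS

/-- Brauer-Suzuki: an involution commuting with no other involution is central modulo `O(G)`. -/
theorem brauer_suzuki {G : Type u} [Group G] [Finite G] {t : G} (ht : orderOf t = 2)
    (h : ∀ s : G, orderOf s = 2 → Commute t s → s = t) (g : G) : ⁅t, g⁆ ∈ pPrimeCore 2 G :=
  BS.aux _ G rfl t ht h g

end Cfsg.Agent.P1
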