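/-
The Brauer-Suzuki theorem `brauer_suzuki` (proved in `P1/B_*.lean`).
-/
import Cfsg.Agent.P1.B_2
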