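/-
Glauberman's Z*-theorem.
-/
import Cfsg.Agent.P1.BS
import Cfsg.Agent.L.Invol
import Cfsg.Agent.L.BaerSuzuki

set_option autoImplicit false

namespace Cfsg.Agent.P1

open Subgroup Cfsg Cfsg.Agent Cfsg.Agent.FT
open scoped ComplexConjugate commutatorElement

universe u

namespace ZS

variable {G : Type u} [Group G]

theorem conj_even {t s : G} (ht : t * t = 1) (hs : s * s = 1) (m : ℕ) :
    ((t * s) ^ m)⁻¹ * t * (t * s) ^ m = t * (t * s) ^ (2 * m) := by
  rw [← L.invol_conj_pow ht hs, mul_assoc _ t t, ht, mul_one, mul_assoc, ← pow_add, two_mul]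

theorem conj_odd {t s : G} (ht : t * t = 1) (hs : s * s = 1) (m : ℕ) :
    ((t * s) ^ m)⁻¹ * s * (t * s) ^ m = t * (t * s) ^ (2 * m + 1) := by
  have h1 : s = t * (t * s) := by rw [← mul_assoc, ht, one_mul]
  nth_rw 2 [h1]
  rw [← mul_assoc, mul_assoc _ (t * s), ← pow_succ', pow_succ, ← mul_assoc, conj_even ht hs,
    mul_assoc, ← pow_succ]

theorem eq_of_commute {t s : G} (ht : t * t = 1) (hs : s * s = 1) (h : Odd (orderOf (t * s)))
    (hc : Commute t s) : s = t := by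
  have h1 : (t * s) ^ 2 = 1 := by rw [hc.mul_pow, sq, sq, ht, hs, one_mul]
  have h2 := orderOf_eq_one_iff.mp (Nat.eq_one_of_dvd_coprimes (Nat.coprime_two_right.mpr h)
    dvd_rfl (orderOf_dvd_of_pow_eq_one h1))
  rw [← one_mul s, ← ht, mul_assoc, h2, mul_one]

theorem conj_mul_self {t : G} (ht : t * t = 1) (g : G) : g * t * g⁻¹ * (g * t * g⁻¹) = 1 := by
  rw [conj_mul, ht, mul_one, mul_inv_cancel]

theorem mul_self_of_orderOf {t : G} (ht : orderOf t = 2) : t * t = 1 := by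
  rw [← sq, ← ht, pow_orderOf_eq_one]

/-- The central involution of the dihedral group generated by two involutions. -/
theorem exists_half [Finite G] {t s : G} (ht : t * t = 1) (hs : s * s = 1)
    (h : ¬ Odd (orderOf (t * s))) : ∃ k, orderOf (t * s) = 2 * k ∧ orderOf ((t * s) ^ k) = 2 ∧
      Commute t ((t * s) ^ k) := by
  obtain ⟨k, hk⟩ := (Nat.not_odd_iff_even.mp h).two_dvd
  have h0 : k ≠ 0 := fun e => (orderOf_pos (t * s)).ne' (by rw [hk, e, mul_zero])
  have h1 : orderOf ((t * s) ^ k) = 2 := by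
    rw [orderOf_pow_of_dvd h0 (hk ▸ dvd_mul_left k 2), hk, Nat.mul_div_cancel _ (Nat.pos_of_ne_zero h0)]
  refine ⟨k, hk, h1, ?_⟩
  have := L.invol_conj_pow ht hs k
  rw [L.inv_eq_self_of_mul_self (mul_self_of_orderOf h1)] at this
  rw [commute_iff_eq]
  nth_rw 2 [← this]
  rw [mul_assoc _ t t, ht, mul_one]

theorem odd_of_isolated [Finite G] {t : G} (ht : t * t = 1)
    (h : ∀ g : G, Commute t (g * t * g⁻¹) → g * t * g⁻¹ = t) (g : G) :
    Odd (orderOf (t * (g * t * g⁻¹))) := by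
  by_contra e
  have hs := conj_mul_self ht g
  obtain ⟨k, -, h1, h2⟩ := exists_half ht hs e
  obtain ⟨a, ha⟩ : ∃ a : G, a * t * a⁻¹ = t * (t * (g * t * g⁻¹)) ^ k := by
    obtain ⟨m, rfl | rfl⟩ := Nat.even_or_odd' k
    · exact ⟨((t * (g * t * g⁻¹)) ^ m)⁻¹, by rw [inv_inv, conj_even ht hs]⟩
    · exact ⟨((t * (g * t * g⁻¹)) ^ m)⁻¹ * g, by rw [← conj_odd ht hs]; group⟩
  have h3 := h a (ha ▸ (Commute.refl t).mul_right h2)
  rw [ha, mul_eq_left] at h3
  simp [h3] at h1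

theorem char_eq [Finite G] {t s : G} (ht : t * t = 1)
    (h : ∀ g : G, Odd (orderOf (t * (g * t * g⁻¹))))
    (hC : ∀ z : G, orderOf z = 2 → t ∈ 𝐂[z] → ∀ g ∈ 𝐂[z], ⁅t, g⁆ ∈ H2.pPrimeCoreOf 2 𝐂[z])
    (hs : s * s = 1) (hst : s ≠ t) (hc : Commute t s) {χ : G → ℂ} (hχ : χ ∈ B0 2 ⊤) :
    χ s * χ t = χ 1 * χ (t * s) := by
  have h0 := B0_subset _ _ hχ
  have hcf := irr_mem_CF h0
  have h1 := sum_conj_mul h0 (mem_top s) t
  rw [sum_fs_congr (g := fun _ => χ (t * s)), sum_fs_const, nsmul_eq_mul, mul_left_comm,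
    mul_right_inj' (card_ne_zero_C _)] at h1
  · exact h1.symm
  intro a _
  have hs' := conj_mul_self hs a
  rw [CF_mul_comm hcf (mem_top _)]
  generalize ha : a * s * a⁻¹ = r at hs'
  have iso : ∀ g, Commute t (g * t * g⁻¹) → g * t * g⁻¹ = t := fun g =>
    eq_of_commute ht (conj_mul_self ht g) (h g)
  obtain ⟨k, h2, h3, h4⟩ := exists_half ht hs' fun e => by
    obtain ⟨j, h2, h3⟩ := L.exists_invol_conj_of_odd ht hs' e
    have h4 : s = a⁻¹ * (t * (t * r) ^ j) * t * (a⁻¹ * (t * (t * r) ^ j))⁻¹ := by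
      rw [mul_inv_rev, L.inv_eq_self_of_mul_self h2, mul_assoc a⁻¹, mul_assoc a⁻¹,
        ← mul_assoc (_ * t), h3, ← ha]
      group
    exact hst (h4.trans (iso _ (h4 ▸ hc)))
  obtain ⟨m, rfl | rfl⟩ := Nat.even_or_odd' k
  · have h5 := iso ((t * r) ^ m)⁻¹ (by
      rw [inv_inv, conj_even ht hs']; exact (Commute.refl t).mul_right h4)
    rw [inv_inv, conj_even ht hs', mul_eq_left] at h5
    simp [h5] at h3
  have h5 := conj_odd ht hs' m
  generalize hz : (t * r) ^ (2 * m + 1) = z at h3 h4 h5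
  have hzz := mul_self_of_orderOf h3
  have h6 : t * r ∈ 𝐂[z] := mem_centralizer_singleton_iff.mpr
    (hz ▸ (Commute.refl _).pow_right _ : Commute (t * r) z)
  have h7 := hC z h3 (mem_centralizer_singleton_iff.mpr h4) _ h6
  have h8 : ⁅t, t * r⁆ = ((t * r) ^ 2)⁻¹ := by
    have := L.invol_conj_pow ht hs' 1
    rw [pow_one] at this
    rw [commutatorElement_def, L.inv_eq_self_of_mul_self ht, this, ← inv_pow, sq]
  rw [h8, inv_mem_iff] at h7
  have h9 := B0_apply_mul (K := ⊤) (N := H2.pPrimeCoreOf 2 𝐂[z]) (u := z) (k := 1) Nat.prime_two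
    (mem_top z) (by rw [pow_one, sq, hzz]) (one_mem_regSet _ _) (by
      rw [top_inf_eq]; exact ⟨H2.pPrimeCoreOf_le _ _, H2.le_normalizer_pPrimeCoreOf _ _⟩)
    (H2.coprime_card_pPrimeCoreOf _ _) (pow_mem h7 (m + 1)) hχ
  rw [mul_one, ← pow_mul, show 2 * (m + 1) = 2 * m + 1 + 1 by ring, pow_succ, hz, ← mul_assoc z z,
    hzz, one_mul] at h9
  rw [h9]
  -- `z` is conjugate to `t s`
  obtain ⟨g, hg⟩ : ∃ g : G, g * s * g⁻¹ = t * z :=
    ⟨((t * r) ^ m)⁻¹ * a, by rw [← h5, ← ha]; group⟩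
  obtain ⟨j, h10, h11⟩ := L.exists_invol_conj_of_odd ht (conj_mul_self ht g) (h g)
  have h12 : Commute (g * t * g⁻¹) (t * z) := by
    rw [← hg, commute_iff_eq, conj_mul, conj_mul, hc.eq]
  have h13 : Commute t (t * z) := (Commute.refl t).mul_right h4
  have h14 := h13.mul_left ((h13.mul_left h12).pow_left j)
  generalize t * (t * (g * t * g⁻¹)) ^ j = c at h10 h11 h14
  rw [← CF_conj hcf (mem_top c) z, ← CF_conj hcf (mem_top g) (t * s), ← conj_mul, hg, ← h11,
    mul_assoc _ c, h14.eq, L.inv_eq_self_of_mul_self h10]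
  simp only [← mul_assoc]
  rw [mul_assoc c t t, ht, mul_one]

end ZS

open ZS in
theorem zstar_aux (G : Type u) [Group G] [Finite G] : ∀ t : G, t * t = 1 →
    (∀ g : G, Odd (orderOf (t * (g * t * g⁻¹)))) → ∀ g : G, ⁅t, g⁆ ∈ pPrimeCore 2 G := by
  refine L.induction_on_card (P := fun G _ _ => ∀ t : G, t * t = 1 →
    (∀ g : G, Odd (orderOf (t * (g * t * g⁻¹)))) → ∀ g : G, ⁅t, g⁆ ∈ pPrimeCore 2 G) G ?_
  intro G _ _ ih t ht h
  have hq : ∀ (N : Subgroup G) [N.Normal], N ≠ ⊥ → ∀ g,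
      ⁅t, g⁆ ∈ (pPrimeCore 2 (G ⧸ N)).comap (QuotientGroup.mk' N) := fun N _ hN g => by
    rw [mem_comap, map_commutatorElement]
    refine ih _ (L.card_quotient_lt N hN) _ (by rw [← map_mul, ht, map_one]) (fun x => ?_) _
    obtain ⟨x, rfl⟩ := QuotientGroup.mk'_surjective N x
    simpa using (h x).of_dvd_nat (orderOf_map_dvd (QuotientGroup.mk' N) _)
  have hs : ∀ H : Subgroup G, H ≠ ⊤ → t ∈ H → ∀ g ∈ H, ⁅t, g⁆ ∈ H2.pPrimeCoreOf 2 H :=
    fun H hH htH g hg => ⟨_, ih H (L.card_lt_of_ne_top hH) ⟨t, htH⟩ (Subtype.ext ht)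
      (fun x => by rw [← orderOf_coe]; exact h x) ⟨g, hg⟩, rfl⟩
  by_cases hO : pPrimeCore 2 G ≠ ⊥
  · intro g
    have := hq _ hO g
    rwa [L.comap_pPrimeCore_quotient Nat.prime_two (L.coprime_card_pPrimeCore 2)] at this
  rw [not_not] at hO
  by_contra hno
  have hti := L.inv_eq_self_of_mul_self ht
  have hcm : ∀ g, ⁅t, g⁆ = t * (g * t * g⁻¹) := fun g => by
    rw [commutatorElement_def, hti, mul_assoc, mul_assoc, mul_assoc]
  have iso : ∀ g, Commute t (g * t * g⁻¹) → g * t * g⁻¹ = t := fun g =>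
    eq_of_commute ht (conj_mul_self ht g) (h g)
  have hN : ∀ N : Subgroup G, N.Normal → t ∈ N → N = ⊤ := fun N hN htN => by
    by_contra e
    refine hno fun g => ?_
    have := hs N e htN _ (hN.conj_mem t htN g)
    rw [H2.pPrimeCoreOf, L.map_subtype_pPrimeCore Nat.prime_two, hO, bot_inf_eq, mem_bot,
      commutatorElement_eq_one_iff_commute] at this
    rw [hcm, iso g this, ht]
    exact one_mem _
  have hZ : ∀ z : G, orderOf z = 2 → 𝐂[z] ≠ ⊤ := fun z hz e => hno fun g => by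
    have h1 : ⊤ ≤ centralizer (zpowers z : Set G) := by
      rw [← e, zpowers_eq_closure, centralizer_closure]
    have : (zpowers z).Normal := normalizer_eq_top_iff.mp
      (top_le_iff.mp (H1.le_normalizer_of_le_centralizer h1))
    have h2 := L.le_sup_piCore_of_central (π := {2}) (Z := zpowers z)
      (K := (pPrimeCore 2 (G ⧸ zpowers z)).comap (QuotientGroup.mk' _)) (QuotientGroup.le_comap_mk' _ _)
      (le_top.trans h1) (fun q hq hd => by
        rw [Nat.card_zpowers, hz] at hd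
        exact (Nat.prime_dvd_prime_iff_eq hq Nat.prime_two).mp hd) (by
        rw [L.isPiNum_compl_singleton_iff Nat.prime_two, L.relIndex_eq_card_map_mk',
          map_comap_eq_self_of_surjective (QuotientGroup.mk'_surjective _)]
        exact L.coprime_card_pPrimeCore 2)
      (hq _ (fun e => by simp [zpowers_eq_bot.mp e] at hz) g)
    rw [← L.pPrimeCore_eq_piCore Nat.prime_two, hO, sup_bot_eq] at h2
    have h3 := orderOf_dvd_of_mem_zpowers h2
    rw [hz, hcm] at h3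
    rw [hcm, orderOf_eq_one_iff.mp (Nat.eq_one_of_dvd_coprimes (Nat.coprime_two_right.mpr (h g))
      dvd_rfl h3)]
    exact one_mem _
  have ht2 : orderOf t = 2 := orderOf_eq_prime (by rw [sq, ht]) fun e => hno fun g => by simp [e]
  obtain ⟨s, h1, h2, h3⟩ : ∃ s, orderOf s = 2 ∧ Commute t s ∧ s ≠ t := by
    by_contra e
    push Not at e
    exact hno (brauer_suzuki ht2 e)
  have hss := mul_self_of_orderOf h1
  have h4 : t * s * (t * s) = 1 := by rw [← sq, h2.mul_pow, sq, sq, ht, hss, one_mul]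
  have h5 : orderOf (t * s) = 2 := orderOf_eq_prime (by rw [sq, h4]) fun e => h3 (by
    rw [← one_mul s, ← ht, mul_assoc, e, mul_one])
  have key := fun s a b c χ => char_eq (s := s) (χ := χ) ht h
    (fun z hz => hs _ (hZ z hz)) a b c
  have real : ∀ x, x * x = 1 → ∀ χ ∈ B0 2 (⊤ : Subgroup G), conj (χ x) = χ x := fun x hx χ hχ => by
    rw [← (irr_isChar (B0_subset _ _ hχ)).apply_inv, L.inv_eq_self_of_mul_self hx]
  have h6 := sum_B0_reg_sing Nat.prime_two ⊤ (x := 1) (g := s) (by simp) h1.symm.dvd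
  have h7 := sum_B0_reg_sing Nat.prime_two ⊤ (x := 1) (g := t * s) (by simp) h5.symm.dvd
  rw [Finset.sum_congr rfl fun χ hχ => by rw [real _ hss χ hχ]] at h6
  rw [Finset.sum_congr rfl fun χ hχ => by rw [real _ h4 χ hχ, ← key s hss h3 h2 χ hχ]] at h7
  have h8 := congrArg₂ (· + ·) h6 h7
  simp only [add_zero, ← Finset.sum_add_distrib] at h8
  rw [Finset.sum_eq_single_of_mem _ (cf1_mem_B0 2 ⊤) fun χ hχ e => ?_] at h8
  · norm_num at h8
  have h9 := key s hss h3 h2 χ hχ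
  have h10 := key (t * s) h4 (fun e => by simp [mul_eq_left.mp e] at h1)
    ((Commute.refl t).mul_right h2) χ hχ
  rw [← mul_assoc t, ht, one_mul] at h10
  have h11 := B0_subset _ _ hχ
  have h12 : χ t - χ 1 ≠ 0 := fun e' => e ((irr_eq_cf1_iff h11).mpr (hN _ (normalizer_eq_top_iff.mp
    (top_le_iff.mp (le_norm_cfKer (irr_mem_CF h11))))
    ((irr_isChar h11).mem_cfKer_iff.mpr (sub_eq_zero.mp e'))).ge)
  refine mul_left_cancel₀ h12 ?_
  linear_combination χ t * h9 + χ 1 * h10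

/-- Glauberman's Z*-theorem: an isolated involution is central modulo `O(G)`. -/
theorem zstar {G : Type u} [Group G] [Finite G] {t : G} (ht : orderOf t = 2)
    (h : ∀ g : G, Commute t (g * t * g⁻¹) → g * t * g⁻¹ = t) (g : G) :
    ⁅t, g⁆ ∈ pPrimeCore 2 G :=
  zstar_aux G t (ZS.mul_self_of_orderOf ht) (ZS.odd_of_isolated (ZS.mul_self_of_orderOf ht) h) g

/-- Sylow form of the Z*-theorem. -/
theorem zstar_sylow {G : Type u} [Group G] [Finite G] (S : Sylow 2 G) {t : G} (ht : orderOf t = 2)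
    (htS : t ∈ S) (h : ∀ g : G, g * t * g⁻¹ ∈ S → g * t * g⁻¹ = t) (g : G) :
    ⁅t, g⁆ ∈ pPrimeCore 2 G := by
  refine zstar ht (fun a ha => ?_) g
  have h1 := ZS.mul_self_of_orderOf ht
  obtain ⟨b, -, hb⟩ := H1.exists_conj_le_sylow (H := ⊤) S.isPGroup' (by
    rw [relIndex_top_right]; exact S.not_dvd_index) le_top
    (L.isPGroup_two_closure_of_involutions h1 (ZS.conj_mul_self h1 a) (k := 1)
      (by rw [pow_one, ha.mul_pow, sq, sq, h1, ZS.conj_mul_self h1 a, one_mul]))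
  have h2 := h b (H1.map_conj_le_iff.mp hb _ (subset_closure (by simp)))
  have h3 := h (b * a) (by
    have := H1.map_conj_le_iff.mp hb (a * t * a⁻¹) (subset_closure (by simp))
    rwa [show b * (a * t * a⁻¹) * b⁻¹ = b * a * t * (b * a)⁻¹ by group] at this)
  have : b * (a * t * a⁻¹) * b⁻¹ = b * t * b⁻¹ := by
    rw [h2]; nth_rw 2 [← h3]; group
  simpa using this

/-- Odd order form of the Z*-theorem. -/
theorem zstar_odd {G : Type u} [Group G] [Finite G] {t : G} (ht : orderOf t = 2)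
    (h : ∀ g : G, Odd (orderOf (t * (g * t * g⁻¹)))) (g : G) : ⁅t, g⁆ ∈ pPrimeCore 2 G :=
  zstar_aux G t (ZS.mul_self_of_orderOf ht) h g

end Cfsg.Agent.P1
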