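/-
Glauberman's Z*-theorem: `zstar`, `zstar_sylow`, `zstar_odd` (proved in `P1/C_1.lean`).
-/
import Cfsg.Agent.P1.BS
import Cfsg.Agent.P1.C_1
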